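import Mathlib
import Cfsg.Agent.Lib.Char.GoingDown
import Cfsg.Agent.Lib.Char.LinearChars
import Cfsg.Agent.Lib.Char.PrimeIndex

/-!
# Products of characters of coprime degrees

Suppose that the irreducible character degrees of `H` are `1`, `a`, `b` with `a`, `b` coprime and
that the nonlinear irreducible characters `χ` have `‖χ x‖ < χ(1)` for `x ≠ 1`. Then `a` and `b` do
not both occur: `no_three_coprime`.
-/

set_option autoImplicit false
set_option linter.style.haveILetI false

namespace Cfsg.Agent.Lib.Char.ThreeDeg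

open Cfsg Cfsg.Agent.Lib.Char Cfsg.Agent.Lib.Char.Basic Cfsg.Agent.Lib.Char.Ortho
  Cfsg.Agent.Lib.Char.Induced Cfsg.Agent.Lib.Char.LinearChars
open scoped ComplexConjugate

universe u

variable {H : Type u} [Group H] [Fintype H]

/-- The degree of an irreducible character. -/
noncomputable def dg (χ : IrrCharacter H) : ℕ := charDegree (χ : H → ℂ)

omit [Fintype H] in
theorem dg_cast (χ : IrrCharacter H) : ((dg χ : ℕ) : ℂ) = (χ : H → ℂ) 1 :=
  Values.IsCharacter.charDegree_cast (Values.IsIrrCharacter.isCharacter χ.2)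

omit [Fintype H] in
theorem dg_eq {χ : IrrCharacter H} {n : ℕ} (h : (χ : H → ℂ) 1 = n) : dg χ = n :=
  Values.IsCharacter.charDegree_eq (Values.IsIrrCharacter.isCharacter χ.2) h

theorem dg_pos (χ : IrrCharacter H) : 0 < dg χ := by
  obtain ⟨n, hn, h⟩ := irr_degree_pos χ.2
  rw [dg_eq h]
  exact hn

/-- The complex conjugate of an irreducible character is irreducible. -/
theorem isIrr_conj {χ : H → ℂ} (hχ : IsIrrCharacter H χ) : IsIrrCharacter H (fun g => conj (χ g)) := by
  apply isIrrCharacter_of_classInner_self_eq_one (isCharacter_conj (isCharacter_of_isIrrCharacter hχ))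
  have h1 := classInner_irr_self hχ
  rw [← h1, ← classInner_conj_symm]
  unfold classInner
  simp only [map_mul, map_sum, map_inv₀, Complex.conj_natCast, Complex.conj_conj]

/-- The conjugate irreducible character. -/
noncomputable def cnj (χ : IrrCharacter H) : IrrCharacter H := ⟨fun g => conj ((χ : H → ℂ) g), isIrr_conj χ.2⟩

theorem cnj_apply (χ : IrrCharacter H) (g : H) : (cnj χ : H → ℂ) g = conj ((χ : H → ℂ) g) := rfl

theorem cnj_cnj (χ : IrrCharacter H) : cnj (cnj χ) = χ := by
  apply Subtype.ext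
  funext g
  simp [cnj_apply]

theorem dg_cnj (χ : IrrCharacter H) : dg (cnj χ) = dg χ := by
  apply dg_eq
  rw [cnj_apply, ← dg_cast, Complex.conj_natCast]

/-- The multiplicity of `β` in `χ ψ` is a natural number. -/
theorem exists_nat_mult (χ ψ β : IrrCharacter H) :
    ∃ n : ℕ, classInner ((χ : H → ℂ) * (ψ : H → ℂ)) β = n :=
  exists_nat_classInner (isCharacter_mul (isCharacter_of_isIrrCharacter χ.2)
    (isCharacter_of_isIrrCharacter ψ.2)) β

/-- The symmetry of the multiplicities. -/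
theorem mult_symm (χ ψ β : IrrCharacter H) :
    classInner ((χ : H → ℂ) * (ψ : H → ℂ)) β = classInner ((cnj χ : H → ℂ) * (β : H → ℂ)) ψ := by
  obtain ⟨n, hn⟩ := exists_nat_mult (cnj χ) β ψ
  have h1 : classInner ((χ : H → ℂ) * (ψ : H → ℂ)) β = conj (classInner ((cnj χ : H → ℂ) * (β : H → ℂ)) ψ) := by
    unfold classInner
    simp only [map_mul, map_sum, map_inv₀, Complex.conj_natCast, Complex.conj_conj, Pi.mul_apply,
      cnj_apply]
    congr 1
    refine Finset.sum_congr rfl fun g _ => by ring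
  rw [h1, hn, Complex.conj_natCast]

/-- All constituents of `K` have degree `s`. -/
def AllDeg (K : H → ℂ) (s : ℕ) : Prop :=
  ∀ β : IrrCharacter H, classInner K β ≠ 0 → dg β = s

theorem sum_mult_of_allDeg {K : H → ℂ} (hK : IsCharacter H K) {s : ℕ} (hs : s ≠ 0)
    (h : AllDeg K s) {m : ℂ} (hm : K 1 = m * s) : ∑ β : IrrCharacter H, classInner K β = m := by
  have h1 := congrFun (decomp_eq_sum_classInner hK) 1
  simp only [Finset.sum_apply, Pi.smul_apply, smul_eq_mul] at h1
  have h2 : ∑ β : IrrCharacter H, classInner K β * (β : H → ℂ) 1 =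
      (∑ β : IrrCharacter H, classInner K β) * s := by
    rw [Finset.sum_mul]
    refine Finset.sum_congr rfl fun β _ => ?_
    by_cases hβ : classInner K β = 0
    · simp [hβ]
    · rw [← dg_cast, h β hβ]
  rw [h2, hm] at h1
  have hs' : (s : ℂ) ≠ 0 := by exact_mod_cast hs
  exact (mul_right_cancel₀ hs' h1).symm

section Main

variable (r s : ℕ)

open Classical in
/-- The set of `ψ` of degree `s` with all constituents of `χ ψ` of degree `s`. -/
noncomputable def tset (s : ℕ) (χ : IrrCharacter H) : Finset (IrrCharacter H) :=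
  Finset.univ.filter fun ψ => dg ψ = s ∧ AllDeg ((χ : H → ℂ) * (ψ : H → ℂ)) s

/-- The sum over that set. -/
noncomputable def tsum (s : ℕ) (χ : IrrCharacter H) : H → ℂ := ∑ ψ ∈ tset s χ, (ψ : H → ℂ)

theorem mem_tset {χ ψ : IrrCharacter H} :
    ψ ∈ tset s χ ↔ dg ψ = s ∧ AllDeg ((χ : H → ℂ) * (ψ : H → ℂ)) s := by
  classical
  simp [tset]

variable {r s}

/-- The main computation. -/
theorem mul_tsum (hs : s ≠ 0) (hrs : r ≠ s)
    (Dich : ∀ χ ψ : IrrCharacter H, dg χ = r → dg ψ = s →
      AllDeg ((χ : H → ℂ) * (ψ : H → ℂ)) r ∨ AllDeg ((χ : H → ℂ) * (ψ : H → ℂ)) s)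
    {χ : IrrCharacter H} (hχ : dg χ = r) :
    (χ : H → ℂ) * tsum s χ = (r : ℂ) • tsum s (cnj χ) := by
  classical
  have hχc := isCharacter_of_isIrrCharacter χ.2
  have hc : IsCharacter H ((χ : H → ℂ) * tsum s χ) := by
    refine isCharacter_mul hχc ?_
    exact isCharacter_finset_sum _ fun ψ _ => isCharacter_of_isIrrCharacter ψ.2
  have hχ' : dg (cnj χ) = r := by rw [dg_cnj, hχ]
  have hval : ∀ β : IrrCharacter H, classInner ((χ : H → ℂ) * tsum s χ) β =
      if β ∈ tset s (cnj χ) then (r : ℂ) else 0 := by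
    intro β
    have hexp : classInner ((χ : H → ℂ) * tsum s χ) β =
        ∑ ψ ∈ tset s χ, classInner ((χ : H → ℂ) * (ψ : H → ℂ)) β := by
      rw [tsum, Finset.mul_sum, classInner_sum_left]
    rw [hexp]
    split_ifs with hβ
    · obtain ⟨hβs, hβall⟩ := (mem_tset s).1 hβ
      -- extend the sum to all `ψ`
      have h1 : ∑ ψ ∈ tset s χ, classInner ((χ : H → ℂ) * (ψ : H → ℂ)) β =
          ∑ ψ : IrrCharacter H, classInner ((cnj χ : H → ℂ) * (β : H → ℂ)) ψ := by
        rw [← Finset.sum_subset (Finset.subset_univ (tset s χ))]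
        · exact Finset.sum_congr rfl fun ψ _ => mult_symm χ ψ β
        · intro ψ _ hψ
          by_contra hne
          apply hψ
          have hψs : dg ψ = s := hβall ψ hne
          refine (mem_tset s).2 ⟨hψs, ?_⟩
          rw [← mult_symm] at hne
          rcases Dich χ ψ hχ hψs with h2 | h2
          · exact absurd ((h2 β hne).symm.trans hβs) hrs
          · exact h2
      rw [h1]
      apply sum_mult_of_allDeg (isCharacter_mul (isCharacter_of_isIrrCharacter (cnj χ).2)
        (isCharacter_of_isIrrCharacter β.2)) hs hβall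
      rw [Pi.mul_apply, ← dg_cast, ← dg_cast, hχ', hβs]
    · refine Finset.sum_eq_zero fun ψ hψ => ?_
      obtain ⟨hψs, hψall⟩ := (mem_tset s).1 hψ
      by_contra hne
      have hβs : dg β = s := hψall β hne
      rw [mult_symm] at hne
      rcases Dich (cnj χ) β hχ' hβs with h2 | h2
      · exact hrs ((h2 ψ hne).symm.trans hψs)
      · exact hβ ((mem_tset s).2 ⟨hβs, h2⟩)
  conv_lhs => rw [decomp_eq_sum_classInner hc]
  simp only [hval]
  rw [tsum, Finset.smul_sum, ← Finset.sum_filter_add_sum_filter_not Finset.univ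
    (fun β => β ∈ tset s (cnj χ))]
  have h3 : ∑ x ∈ Finset.univ.filter (fun β => ¬ β ∈ tset s (cnj χ)),
      (if x ∈ tset s (cnj χ) then (r : ℂ) else 0) • (x : H → ℂ) = 0 := by
    refine Finset.sum_eq_zero fun x hx => ?_
    rw [if_neg (Finset.mem_filter.1 hx).2, zero_smul]
  rw [h3, add_zero]
  have h4 : Finset.univ.filter (fun β => β ∈ tset s (cnj χ)) = tset s (cnj χ) := by
    ext x
    simp
  rw [h4]
  refine Finset.sum_congr rfl fun x hx => ?_
  rw [if_pos hx]

/-- The set is empty. -/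
theorem tset_eq_empty (hs1 : 1 < s) (hrs : r ≠ s)
    (Dich : ∀ χ ψ : IrrCharacter H, dg χ = r → dg ψ = s →
      AllDeg ((χ : H → ℂ) * (ψ : H → ℂ)) r ∨ AllDeg ((χ : H → ℂ) * (ψ : H → ℂ)) s)
    {χ : IrrCharacter H} (hχ : dg χ = r)
    (hZ : ∀ x : H, x ≠ 1 → ‖(χ : H → ℂ) x‖ ≠ r) : tset s χ = ∅ := by
  classical
  have hs : s ≠ 0 := by omega
  have hχ' : dg (cnj χ) = r := by rw [dg_cnj, hχ]
  have e1 := mul_tsum hs hrs Dich hχ
  have e2 := mul_tsum hs hrs Dich hχ'
  rw [cnj_cnj] at e2
  -- vanishing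
  have hv : ∀ x : H, x ≠ 1 → tsum s χ x = 0 := by
    intro x hx
    have h1 := congrFun e1 x
    have h2 := congrFun e2 x
    simp only [Pi.mul_apply, Pi.smul_apply, smul_eq_mul, cnj_apply] at h1 h2
    have h3 : (conj ((χ : H → ℂ) x) * (χ : H → ℂ) x - (r : ℂ) ^ 2) * tsum s χ x = 0 := by
      linear_combination conj ((χ : H → ℂ) x) * h1 + (r : ℂ) * h2
    have h4 : conj ((χ : H → ℂ) x) * (χ : H → ℂ) x - (r : ℂ) ^ 2 ≠ 0 := by
      intro h0
      apply hZ x hx
      have h5 : conj ((χ : H → ℂ) x) * (χ : H → ℂ) x = ((‖(χ : H → ℂ) x‖ ^ 2 : ℝ) : ℂ) := by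
        rw [Complex.conj_mul']
        push_cast
        rfl
      rw [h5, sub_eq_zero] at h0
      have h6 : ‖(χ : H → ℂ) x‖ ^ 2 = (r : ℝ) ^ 2 := by exact_mod_cast h0
      have h7 := (sq_eq_sq₀ (norm_nonneg _) (Nat.cast_nonneg r)).1 h6
      exact h7
    exact (mul_eq_zero.1 h3).resolve_left h4
  -- the inner product with the trivial character
  have hone : IsIrrCharacter H (fun _ => (1 : ℂ)) := Cfsg.Agent.Lib.Char.Burnside2.isIrrCharacter_one
  have hin : classInner (tsum s χ) (fun _ => (1 : ℂ)) = 0 := by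
    rw [tsum, classInner_sum_left]
    refine Finset.sum_eq_zero fun ψ hψ => ?_
    obtain ⟨hψs, -⟩ := (mem_tset s).1 hψ
    apply classInner_irr_of_ne ψ.2 hone
    intro h
    have h1 := congrFun h 1
    rw [← dg_cast, hψs] at h1
    have h2 : s = 1 := by exact_mod_cast h1
    omega
  have hin2 : classInner (tsum s χ) (fun _ => (1 : ℂ)) = (Nat.card H : ℂ)⁻¹ * tsum s χ 1 := by
    rw [classInner]
    congr 1
    rw [Finset.sum_eq_single (1 : H)]
    · simp
    · intro x _ hx
      rw [hv x hx, zero_mul]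
    · simp
  have hcardne : (Nat.card H : ℂ)⁻¹ ≠ 0 := inv_ne_zero (Nat.cast_ne_zero.2 Nat.card_pos.ne')
  have h0 : tsum s χ 1 = 0 := by
    rw [hin] at hin2
    exact (mul_eq_zero.1 hin2.symm).resolve_left hcardne
  have h1 : tsum s χ 1 = ((tset s χ).card : ℂ) * s := by
    rw [tsum, Finset.sum_apply, Finset.sum_congr rfl
      (fun ψ hψ => by rw [← dg_cast, ((mem_tset s).1 hψ).1] : ∀ ψ ∈ tset s χ, (ψ : H → ℂ) 1 = s),
      Finset.sum_const, nsmul_eq_mul]
  rw [h0] at h1
  have h2 : (tset s χ).card * s = 0 := by exact_mod_cast h1.symm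
  have h3 : (tset s χ).card = 0 := (Nat.mul_eq_zero.1 h2).resolve_right hs
  exact Finset.card_eq_zero.1 h3

/-- The dichotomy for coprime degrees. -/
theorem dichotomy {a b : ℕ} (ha : 1 < a) (hb : 1 < b) (hab : a.Coprime b)
    (hcd : ∀ χ : IrrCharacter H, dg χ = 1 ∨ dg χ = a ∨ dg χ = b)
    (χ ψ : IrrCharacter H) (hχ : dg χ = a) (hψ : dg ψ = b) :
    AllDeg ((χ : H → ℂ) * (ψ : H → ℂ)) a ∨ AllDeg ((χ : H → ℂ) * (ψ : H → ℂ)) b := by
  classical
  have hne : a ≠ b := by
    intro h
    rw [← h, Nat.coprime_self] at hab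
    omega
  have hK : IsCharacter H ((χ : H → ℂ) * (ψ : H → ℂ)) := isCharacter_mul (isCharacter_of_isIrrCharacter χ.2)
    (isCharacter_of_isIrrCharacter ψ.2)
  choose c hc using fun β : IrrCharacter H => exists_nat_mult χ ψ β
  -- no linear constituents
  have hlin : ∀ β : IrrCharacter H, dg β = 1 → c β = 0 := by
    intro β hβ
    by_contra hne'
    have h1 : classInner ((ψ : H → ℂ) * (χ : H → ℂ)) β ≠ 0 := by
      rw [mul_comm, hc]
      exact_mod_cast hne'
    rw [mult_symm] at h1
    have h2 : (β : H → ℂ) 1 = 1 := by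
      rw [← dg_cast, hβ]
      simp
    obtain ⟨l, hl⟩ := exists_hom_of_isCharacter_one (isCharacter_of_isIrrCharacter β.2) h2
    have hnorm : ∀ x, conj ((β : H → ℂ) x) * (β : H → ℂ) x = 1 := by
      intro x
      rw [hl, mul_comm]
      exact PrimeIndex.mul_conj_hom l x
    have hirr : IsIrrCharacter H ((cnj ψ : H → ℂ) * (β : H → ℂ)) :=
      GoingDown.isIrr_mul_of_norm_one (cnj ψ).2 (isCharacter_of_isIrrCharacter β.2) hnorm
    have heq : (cnj ψ : H → ℂ) * (β : H → ℂ) = χ := by
      by_contra hc'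
      exact h1 (classInner_irr_of_ne hirr χ.2 hc')
    have h3 := congrFun heq 1
    rw [Pi.mul_apply, h2, mul_one, ← dg_cast, ← dg_cast, dg_cnj, hψ, hχ] at h3
    have : b = a := by exact_mod_cast h3
    exact hne this.symm
  -- the count
  set u : ℕ := ∑ β ∈ Finset.univ.filter (fun β : IrrCharacter H => dg β = a), c β with hu
  set v : ℕ := ∑ β ∈ Finset.univ.filter (fun β : IrrCharacter H => ¬ dg β = a), c β with hv
  have htot : a * b = u * a + v * b := by
    have h1 := congrFun (decomp_eq_sum_classInner hK) 1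
    simp only [Finset.sum_apply, Pi.smul_apply, smul_eq_mul, Pi.mul_apply, ← dg_cast, hχ, hψ, hc] at h1
    have h2 : a * b = ∑ β : IrrCharacter H, c β * dg β := by exact_mod_cast h1
    rw [h2, ← Finset.sum_filter_add_sum_filter_not Finset.univ (fun β : IrrCharacter H => dg β = a)]
    congr 1
    · rw [hu, Finset.sum_mul]
      refine Finset.sum_congr rfl fun β hβ => ?_
      rw [(Finset.mem_filter.1 hβ).2]
    · rw [hv, Finset.sum_mul]
      refine Finset.sum_congr rfl fun β hβ => ?_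
      rcases hcd β with h3 | h3 | h3
      · rw [hlin β h3]
        simp
      · exact absurd h3 (Finset.mem_filter.1 hβ).2
      · rw [h3]
  have hau : b ∣ u := by
    have h1 : b ∣ u * a := by
      have h2 : b ∣ u * a + v * b := by
        rw [← htot]
        exact Dvd.intro_left a rfl
      exact (Nat.dvd_add_left (Dvd.intro_left v rfl)).1 h2
    exact (Nat.Coprime.dvd_of_dvd_mul_right hab.symm h1)
  have hav : a ∣ v := by
    have h1 : a ∣ v * b := by
      have h2 : a ∣ u * a + v * b := by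
        rw [← htot]
        exact Dvd.intro b rfl
      exact (Nat.dvd_add_right (Dvd.intro_left u rfl)).1 h2
    exact (Nat.Coprime.dvd_of_dvd_mul_right hab h1)
  obtain ⟨u', hu'⟩ := hau
  obtain ⟨v', hv'⟩ := hav
  have hsum : u' + v' = 1 := by
    have hpos : 0 < a * b := Nat.mul_pos (by omega) (by omega)
    have h1 : a * b * (u' + v') = a * b * 1 := by
      rw [mul_one]
      conv_rhs => rw [htot, hu', hv']
      ring
    exact Nat.eq_of_mul_eq_mul_left hpos h1
  rcases (by omega : (u' = 1 ∧ v' = 0) ∨ (u' = 0 ∧ v' = 1)) with ⟨_, h0⟩ | ⟨h0, _⟩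
  · left
    intro β hβ
    by_contra hβa
    rw [hc] at hβ
    have hcβ : c β ≠ 0 := by exact_mod_cast hβ
    have hmem : β ∈ Finset.univ.filter (fun β : IrrCharacter H => ¬ dg β = a) := by simp [hβa]
    have : v = 0 := by rw [hv', h0, mul_zero]
    rw [hv, Finset.sum_eq_zero_iff] at this
    exact hcβ (this β hmem)
  · right
    intro β hβ
    rw [hc] at hβ
    have hcβ : c β ≠ 0 := by exact_mod_cast hβ
    rcases hcd β with h3 | h3 | h3
    · exact absurd (hlin β h3) hcβ
    · have hmem : β ∈ Finset.univ.filter (fun β : IrrCharacter H => dg β = a) := by simp [h3]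
      have : u = 0 := by rw [hu', h0, mul_zero]
      rw [hu, Finset.sum_eq_zero_iff] at this
      exact absurd (this β hmem) hcβ
    · exact h3

/-- **Coprime degrees do not both occur**, when nonlinear characters have trivial centre. -/
theorem no_three_coprime {a b : ℕ} (ha : 1 < a) (hb : 1 < b) (hab : a.Coprime b)
    (hcd : ∀ χ : IrrCharacter H, dg χ = 1 ∨ dg χ = a ∨ dg χ = b)
    (hZ : ∀ χ : IrrCharacter H, dg χ ≠ 1 → ∀ x : H, x ≠ 1 → ‖(χ : H → ℂ) x‖ ≠ dg χ)
    {χ ψ : IrrCharacter H} (hχ : dg χ = a) (hψ : dg ψ = b) : False := by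
  classical
  have hne : a ≠ b := by
    intro h
    rw [← h, Nat.coprime_self] at hab
    omega
  have Dab := fun χ ψ hχ hψ => dichotomy (H := H) ha hb hab hcd χ ψ hχ hψ
  have Dba : ∀ χ ψ : IrrCharacter H, dg χ = b → dg ψ = a →
      AllDeg ((χ : H → ℂ) * (ψ : H → ℂ)) b ∨ AllDeg ((χ : H → ℂ) * (ψ : H → ℂ)) a := by
    intro χ ψ hχ hψ
    rw [mul_comm]
    exact (Dab ψ χ hψ hχ).symm
  have h1 : tset b χ = ∅ := tset_eq_empty hb hne Dab hχ (by
    intro x hx
    have := hZ χ (by omega) x hx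
    rwa [hχ] at this)
  have h2 : tset a ψ = ∅ := tset_eq_empty ha hne.symm Dba hψ (by
    intro x hx
    have := hZ ψ (by omega) x hx
    rwa [hψ] at this)
  rcases Dab χ ψ hχ hψ with h3 | h3
  · have : χ ∈ tset a ψ := (mem_tset a).2 ⟨hχ, by rwa [mul_comm]⟩
    rw [h2] at this
    simp at this
  · have : ψ ∈ tset b χ := (mem_tset b).2 ⟨hψ, h3⟩
    rw [h1] at this
    simp at this

end Main

end Cfsg.Agent.Lib.Char.ThreeDeg
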