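import Mathlib
import Cfsg.Agent.Lib.Char.PrimeIndex
import Cfsg.Agent.Lib.Char.GoingDown
import Cfsg.Agent.Lib.Char.Gallagher
import Cfsg.Agent.S0886

/-!
# Degrees over a normal subgroup with solvable quotient

* `degree_step`: for `A` normal of prime index, `χ(1) = φ(1)` or `χ(1) = |G:A| φ(1)`.
* `exists_dvd_of_constituent`: `χ(1)/θ(1)` divides `|G:N|` when `G/N` is solvable.
* `isIrr_res_of_coprime_index`: `χ_N` is irreducible when `χ(1)` is coprime to `|G:N|`, `G/N` solvable.
-/

set_option autoImplicit false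
set_option linter.style.haveILetI false

namespace Cfsg.Agent.Lib.Char.ThreeDeg

open Cfsg Cfsg.Agent.Lib.Char.Basic Cfsg.Agent.Lib.Char.Ortho Cfsg.Agent.Lib.Char.Induced
  Cfsg.Agent.Lib.Char.IndRep Cfsg.Agent.Lib.Char.Clifford Cfsg.Agent.Lib.Char.CliffordCorr
  Cfsg.Agent.Lib.Char.PrimeIndex Cfsg.Agent.Lib.Char.GoingDown Cfsg.Agent.Lib.Char.Gallagher
  Cfsg.Agent.Lib.Char.AbelianQuot
open scoped ComplexConjugate

universe u v

/-- A nontrivial finite solvable group has a normal subgroup of prime index. -/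
theorem exists_normal_prime_index {Q : Type*} [Group Q] [Finite Q] [hs : Group.IsSolvable Q]
    [Nontrivial Q] : ∃ M : Subgroup Q, M.Normal ∧ M.index.Prime := by
  classical
  have hc : commutator Q ≠ ⊤ := (Group.IsSolvable.commutator_lt_top_of_nontrivial Q).ne
  obtain ⟨M, hM, hle⟩ : ∃ M : Subgroup Q, IsCoatom M ∧ commutator Q ≤ M := by
    rcases eq_top_or_exists_le_coatom (commutator Q) with h | h
    · exact absurd h hc
    · exact h
  have hMn : M.Normal := Subgroup.Normal.of_commutator_le _ hle
  refine ⟨M, hMn, ?_⟩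
  have hnt : Nontrivial (Q ⧸ M) := QuotientGroup.nontrivial_iff.mpr hM.1
  obtain ⟨q, hq, hqd⟩ := Nat.exists_prime_and_dvd (Finite.one_lt_card (α := Q ⧸ M)).ne'
  haveI : Fact q.Prime := ⟨hq⟩
  obtain ⟨y, hy⟩ := exists_prime_orderOf_dvd_card' q hqd
  obtain ⟨g, rfl⟩ := QuotientGroup.mk_surjective y
  let C : Subgroup Q := (Subgroup.zpowers (g : Q ⧸ M)).comap (QuotientGroup.mk' M)
  have hMC : M ≤ C := by
    intro x hx
    show ((x : Q ⧸ M)) ∈ Subgroup.zpowers (g : Q ⧸ M)
    rw [(QuotientGroup.eq_one_iff x).2 hx]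
    exact one_mem _
  have hgC : g ∈ C := Subgroup.mem_zpowers (g : Q ⧸ M)
  have hgM : g ∉ M := by
    intro h
    have : (g : Q ⧸ M) = 1 := (QuotientGroup.eq_one_iff g).2 h
    rw [this, orderOf_one] at hy
    exact hq.one_lt.ne hy
  have hCtop : C = ⊤ := by
    have hlt : M < C := lt_of_le_of_ne hMC (fun h => hgM (h ▸ hgC))
    exact hM.2 C hlt
  have hzt : Subgroup.zpowers (g : Q ⧸ M) = ⊤ := by
    rw [eq_top_iff]
    intro z _
    obtain ⟨x, rfl⟩ := QuotientGroup.mk_surjective z
    have : x ∈ C := by rw [hCtop]; trivial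
    exact this
  have hcard : Nat.card (Q ⧸ M) = q := by
    have := Nat.card_zpowers (g : Q ⧸ M)
    rw [hzt, Subgroup.card_top, hy] at this
    exact this
  have hidx : M.index = q := hcard
  rw [hidx]
  exact hq

/-- **One step.** -/
theorem degree_step {G : Type u} [Group G] [Fintype G] (A : Subgroup G) [hA : A.Normal] [Fintype A]
    (hf : A.index.Prime) {χ : G → ℂ} (hχ : IsIrrCharacter G χ) {φ : A → ℂ}
    (hφ : IsIrrCharacter A φ) (h : classInner (fun a : A => χ a) φ ≠ 0) :
    χ 1 = φ 1 ∨ χ 1 = A.index * φ 1 := by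
  classical
  have hχc := isClassFunction_of_isCharacter (isCharacter_of_isIrrCharacter hχ)
  have hfrob : classInner (indFun A φ) χ ≠ 0 := by
    rw [frobenius_reciprocity A φ χ hχc]
    intro h0
    apply h
    rw [← classInner_conj_symm, h0, map_zero]
  by_cases hinv : ∀ (g : G) (a : A), φ ⟨g * a * g⁻¹, hA.conj_mem a a.2 g⟩ = φ a
  · left
    have hcard : Nat.card (G ⧸ A) = A.index := rfl
    haveI : Fact (Nat.card (G ⧸ A)).Prime := ⟨hf⟩
    have hcyc : IsCyclic (G ⧸ A) := isCyclic_of_prime_card rfl
    obtain ⟨η, hη, hext⟩ := Cfsg.Agent.S0886.result A hcyc φ hφ hinv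
    have hab : ∀ x y : G, x * y * x⁻¹ * y⁻¹ ∈ A := by
      intro x y
      have h1 : ((x * y * x⁻¹ * y⁻¹ : G) : G ⧸ A) = 1 := by
        simp only [QuotientGroup.mk_mul, QuotientGroup.mk_inv]
        letI := IsCyclic.commGroup (α := G ⧸ A)
        have : ((x : G ⧸ A)) * (y : G ⧸ A) = (y : G ⧸ A) * (x : G ⧸ A) := mul_comm _ _
        rw [this]
        group
      exact (QuotientGroup.eq_one_iff _).1 h1
    obtain ⟨Ξ, hΞ, hdec, -⟩ := exists_indFun_one_eq_sum A hab
    have hηc := isClassFunction_of_isCharacter (isCharacter_of_isIrrCharacter hη)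
    have h1 : indFun A φ = indFun A (fun _ => (1 : ℂ)) * η := by
      rw [indFun_mul_res A _ hηc]
      congr 1
      funext n
      simp [hext]
    rw [h1, hdec, Finset.sum_mul, classInner_sum_left] at hfrob
    obtain ⟨ξ, hξ, hne⟩ := Finset.exists_ne_zero_of_sum_ne_zero hfrob
    have hlin := linear_of_over_one A hab ξ.2 ((hΞ ξ).1 hξ)
    have hirr : IsIrrCharacter G ((ξ : G → ℂ) * η) := by
      rw [mul_comm]
      exact isIrr_mul_of_norm_one hη (isCharacter_of_isIrrCharacter ξ.2) hlin.2.2
    have heq : (ξ : G → ℂ) * η = χ := by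
      by_contra hc
      exact hne (classInner_irr_of_ne hirr hχ hc)
    have h2 : (ξ : G → ℂ) 1 = 1 := hlin.1 1
    have h3 : η 1 = φ 1 := hext 1
    rw [← heq, Pi.mul_apply, h2, one_mul, h3]
  · right
    push Not at hinv
    have hirr := isIrr_indFun_of_not_invariant A hf hφ hinv
    have heq : indFun A φ = χ := by
      by_contra hc
      exact hfrob (classInner_irr_of_ne hirr hχ hc)
    rw [← heq, indFun_one]

section Chain

variable {K : Type v} [Group K] [Fintype K] {θ : K → ℂ}

/-- The chain argument. -/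
theorem degree_dvd_aux (hθ : IsIrrCharacter K θ) : ∀ (m : ℕ) (X : Type u) [Group X] [Fintype X]
    (i : K →* X), Nat.card X = m → Function.Injective i → i.range.Normal →
    (∃ n, derivedSeries X n ≤ i.range) → ∀ {χ : X → ℂ}, IsIrrCharacter X χ →
    classInner (fun k => χ (i k)) θ ≠ 0 → ∃ d : ℕ, d ∣ i.range.index ∧ χ 1 = d * θ 1 := by
  intro m
  induction m using Nat.strong_induction_on with
  | _ m ih =>
    intro X _ _ i hm hinj hnorm hder χ hχ hne
    classical
    by_cases hsurj : i.range = ⊤
    · have hs : Function.Surjective i := MonoidHom.range_eq_top.mp hsurj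
      have hirr := isIrrCharacter_comp_surjective hχ i hs
      have heq : (fun k => χ (i k)) = θ := by
        by_contra hc
        exact hne (classInner_irr_of_ne hirr hθ hc)
      refine ⟨1, one_dvd _, ?_⟩
      rw [← heq]
      simp
    · -- a normal subgroup of prime index above the range
      haveI := hnorm
      obtain ⟨n, hn⟩ := hder
      have hsolv : Group.IsSolvable (X ⧸ i.range) := by
        rw [Group.isSolvable_def]
        refine ⟨n, ?_⟩
        rw [← map_derivedSeries_eq (QuotientGroup.mk'_surjective _),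
          Subgroup.map_eq_bot_iff, QuotientGroup.ker_mk']
        exact hn
      haveI hnt : Nontrivial (X ⧸ i.range) := QuotientGroup.nontrivial_iff.mpr hsurj
      obtain ⟨M, hMn, hMp⟩ := exists_normal_prime_index (Q := X ⧸ i.range)
      let Y : Subgroup X := M.comap (QuotientGroup.mk' i.range)
      have hYn : Y.Normal := hMn.comap _
      have hYidx : Y.index = M.index :=
        Subgroup.index_comap_of_surjective _ (QuotientGroup.mk'_surjective _)
      have hYp : Y.index.Prime := hYidx ▸ hMp
      have hRY : i.range ≤ Y := by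
        intro x hx
        show ((x : X ⧸ i.range)) ∈ M
        rw [(QuotientGroup.eq_one_iff x).2 hx]
        exact one_mem _
      haveI : Fintype Y := Fintype.ofFinite _
      let i' : K →* Y := i.codRestrict Y (fun k => hRY ⟨k, rfl⟩)
      have hi' : ∀ k, ((i' k : Y) : X) = i k := fun _ => rfl
      have hi'inj : Function.Injective i' := fun a b hab =>
        hinj (by rw [← hi', ← hi', hab])
      have hcardY : Nat.card Y < m := by
        have h1 := Subgroup.index_mul_card Y
        rw [← hm, ← h1]
        have h2 : 0 < Nat.card Y := Nat.card_pos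
        have h3 := hYp.two_le
        nlinarith
      have hrange : i'.range = i.range.subgroupOf Y := by
        ext y
        constructor
        · rintro ⟨k, rfl⟩
          exact ⟨k, rfl⟩
        · rintro ⟨k, hk⟩
          exact ⟨k, Subtype.ext hk⟩
      have hnorm' : i'.range.Normal := by
        rw [hrange]
        infer_instance
      have hder' : ∃ n, derivedSeries Y n ≤ i'.range := by
        refine ⟨n, ?_⟩
        intro y hy
        have h1 : (y : X) ∈ derivedSeries X n :=
          map_derivedSeries_le_derivedSeries Y.subtype n ⟨y, hy, rfl⟩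
        rw [hrange]
        exact hn h1
      -- a constituent of the restriction
      have hresc : IsCharacter Y (fun y : Y => χ y) :=
        isCharacter_restrict (isCharacter_of_isIrrCharacter hχ) Y
      obtain ⟨mu, hmu⟩ := exists_nat_decomp hresc
      have hdec : (fun k => χ (i k)) = ∑ φ : IrrCharacter Y, mu φ • fun k => (φ : Y → ℂ) (i' k) := by
        funext k
        have h1 := congrFun hmu (i' k)
        simp only [Finset.sum_apply, Pi.smul_apply] at h1 ⊢
        exact h1
      rw [hdec, classInner_sum_left] at hne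
      obtain ⟨φ, -, hφ⟩ := Finset.exists_ne_zero_of_sum_ne_zero hne
      rw [classInner_nsmul_left] at hφ
      have hmφ : mu φ ≠ 0 := by
        intro h0
        rw [h0] at hφ
        simp at hφ
      have hφ' : classInner (fun k => (φ : Y → ℂ) (i' k)) θ ≠ 0 := right_ne_zero_of_mul hφ
      obtain ⟨d', hd', hφd⟩ := ih _ hcardY Y i' rfl hi'inj hnorm' hder' φ.2 hφ'
      have hχφ : classInner (fun y : Y => χ y) (φ : Y → ℂ) ≠ 0 := by
        have h1 := classInner_sum_irr (fun ψ => (mu ψ : ℂ)) φ
        simp only [Nat.cast_smul_eq_nsmul] at h1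
        rw [← hmu] at h1
        rw [h1]
        exact_mod_cast hmφ
      have hidx : i.range.index = Y.index * i'.range.index := by
        rw [hrange, ← Subgroup.relIndex_mul_index hRY, mul_comm]
        rfl
      rcases degree_step Y hYp hχ φ.2 hχφ with h1 | h1
      · refine ⟨d', ?_, ?_⟩
        · rw [hidx]
          exact Dvd.dvd.mul_left hd' _
        · rw [h1, hφd]
      · refine ⟨Y.index * d', ?_, ?_⟩
        · rw [hidx]
          exact Nat.mul_dvd_mul_left _ hd'
        · rw [h1, hφd]
          push_cast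
          ring

end Chain

/-- **`χ(1)/θ(1)` divides `|G : N|`** when `G/N` is solvable. -/
theorem exists_dvd_of_constituent {G : Type u} [Group G] [Fintype G] (N : Subgroup G) [hN : N.Normal]
    [Fintype N] (hs : Group.IsSolvable (G ⧸ N)) {χ : G → ℂ} (hχ : IsIrrCharacter G χ)
    {θ : N → ℂ} (hθ : IsIrrCharacter N θ) (h : classInner (fun n : N => χ n) θ ≠ 0) :
    ∃ d : ℕ, d ∣ N.index ∧ χ 1 = d * θ 1 := by
  have hr : N.subtype.range = N := Subgroup.range_subtype N
  have hder : ∃ n, derivedSeries G n ≤ N.subtype.range := by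
    rw [hr]
    obtain ⟨n, hn⟩ := (Group.isSolvable_def (G ⧸ N)).1 hs
    refine ⟨n, ?_⟩
    rw [← map_derivedSeries_eq (QuotientGroup.mk'_surjective N),
      Subgroup.map_eq_bot_iff, QuotientGroup.ker_mk'] at hn
    exact hn
  have := degree_dvd_aux hθ _ G N.subtype rfl N.subtype_injective (by rw [hr]; exact hN) hder hχ h
  rwa [hr] at this

/-- **`χ_N` is irreducible when `χ(1)` is coprime to `|G : N|`**, for `G/N` solvable. -/
theorem isIrr_res_of_coprime_index {G : Type u} [Group G] [Fintype G] (N : Subgroup G) [hN : N.Normal]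
    [Fintype N] (hs : Group.IsSolvable (G ⧸ N)) {χ : G → ℂ} (hχ : IsIrrCharacter G χ)
    {k : ℕ} (hk : χ 1 = k) (hcop : k.Coprime N.index) : IsIrrCharacter N (fun n : N => χ n) := by
  classical
  have hresc : IsCharacter N (fun n : N => χ n) :=
    isCharacter_restrict (isCharacter_of_isIrrCharacter hχ) N
  have h1 : (fun n : N => χ n) 1 ≠ 0 := by
    show χ ((1 : N) : G) ≠ 0
    rw [Subgroup.coe_one]
    exact irr_apply_one_ne_zero hχ
  obtain ⟨θ, hθ, hne⟩ := exists_irr_constituent hresc h1
  obtain ⟨d, hd, hχd⟩ := exists_dvd_of_constituent N hs hχ hθ hne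
  obtain ⟨e, -, he⟩ := irr_degree_pos hθ
  have hke : k = d * e := by
    rw [hk, he] at hχd
    exact_mod_cast hχd
  have hd1 : d = 1 := by
    have h2 : d ∣ k := ⟨e, hke⟩
    exact Nat.eq_one_of_dvd_coprimes hcop h2 hd
  obtain ⟨Ξ, hΞ, hdec⟩ := exists_char_add hresc hθ hne
  have hΞ0 : Ξ = 0 := by
    apply eq_zero_of_apply_one_eq_zero hΞ
    have h2 := congrFun hdec 1
    simp only [Pi.add_apply] at h2
    have h3 : χ ((1 : N) : G) = θ 1 + Ξ 1 := h2
    rw [Subgroup.coe_one, hχd, hd1] at h3
    simpa using h3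
  rw [hdec, hΞ0, add_zero]
  exact hθ

end Cfsg.Agent.Lib.Char.ThreeDeg
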