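import Mathlib
import Cfsg.Agent.Lib.PGroup.Basic

/-!
# Groups all of whose proper quotients are abelian

`H` is nonabelian with trivial centre and abelian commutator subgroup `V`, and every nontrivial
normal subgroup contains `V`. Then `H / V` is cyclic of order prime to `|V|` and every element
outside `V` acts without nontrivial fixed points on `V`.
-/

set_option autoImplicit false
set_option linter.style.haveILetI false

namespace Cfsg.Agent.Lib.Char.ThreeDeg

universe u

variable {H : Type u} [Group H]

theorem comm_mem (a b : H) : a * b * a⁻¹ * b⁻¹ ∈ commutator H :=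
  Subgroup.commutator_mem_commutator (Subgroup.mem_top a) (Subgroup.mem_top b)

/-- The fixed points of `u` in a normal subgroup. -/
def fixSub (u : H) (N : Subgroup H) : Subgroup H where
  carrier := {x | x ∈ N ∧ u * x * u⁻¹ = x}
  one_mem' := ⟨N.one_mem, by group⟩
  mul_mem' := by
    rintro a b ⟨ha, ha'⟩ ⟨hb, hb'⟩
    refine ⟨N.mul_mem ha hb, ?_⟩
    calc u * (a * b) * u⁻¹ = (u * a * u⁻¹) * (u * b * u⁻¹) := by group
      _ = a * b := by rw [ha', hb']
  inv_mem' := by
    rintro a ⟨ha, ha'⟩
    refine ⟨N.inv_mem ha, ?_⟩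
    calc u * a⁻¹ * u⁻¹ = (u * a * u⁻¹)⁻¹ := by group
      _ = a⁻¹ := by rw [ha']

theorem mem_fixSub {u x : H} {N : Subgroup H} : x ∈ fixSub u N ↔ x ∈ N ∧ u * x * u⁻¹ = x := Iff.rfl

/-- The fixed points are a normal subgroup when `N` is centralized by the commutator subgroup. -/
theorem fixSub_normal (u : H) {N : Subgroup H} [hN : N.Normal]
    (hc : ∀ x ∈ N, ∀ d ∈ commutator H, d * x = x * d) : (fixSub u N).Normal := by
  refine ⟨fun x hx g => ⟨hN.conj_mem x hx.1 g, ?_⟩⟩
  have hd : g⁻¹ * u * g * u⁻¹ ∈ commutator H := by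
    have := comm_mem g⁻¹ u
    simpa using this
  set d := g⁻¹ * u * g * u⁻¹ with hddef
  have h1 : u * g = g * d * u := by
    rw [hddef]
    group
  calc u * (g * x * g⁻¹) * u⁻¹ = (u * g) * x * (u * g)⁻¹ := by group
    _ = g * d * (u * x * u⁻¹) * d⁻¹ * g⁻¹ := by rw [h1]; group
    _ = g * (d * x) * d⁻¹ * g⁻¹ := by rw [hx.2]; group
    _ = g * x * g⁻¹ := by rw [hc x hx.1 d hd]; group

/-- A finite abelian group acting faithfully and irreducibly on an abelian group is cyclic. -/
theorem isCyclic_of_irreducible {E A : Type*} [Group E] [Finite E] [CommGroup A] [Nontrivial A]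
    (c : E →* MulAut A) (hc : Function.Injective c) (hE : ∀ a b : E, a * b = b * a)
    (hirr : ∀ L : Subgroup A, (∀ e, ∀ x ∈ L, c e x ∈ L) → L = ⊥ ∨ L = ⊤) : IsCyclic E := by
  classical
  let d : E →* AddMonoid.End (Additive A) :=
    { toFun := fun e =>
        { toFun := fun a => Additive.ofMul (c e (Additive.toMul a))
          map_zero' := by
            show Additive.ofMul (c e 1) = 0
            rw [map_one]
            rfl
          map_add' := by
            intro a b
            show Additive.ofMul (c e (Additive.toMul a * Additive.toMul b)) = _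
            rw [map_mul]
            rfl }
      map_one' := by
        ext a
        show Additive.ofMul ((c 1) (Additive.toMul a)) = a
        rw [map_one]
        rfl
      map_mul' := by
        intro x y
        ext a
        show Additive.ofMul ((c (x * y)) (Additive.toMul a)) = _
        rw [map_mul]
        rfl }
  have hd : ∀ (e : E) (a : A), d e (Additive.ofMul a) = Additive.ofMul (c e a) := fun _ _ => rfl
  have hcomm : ∀ x ∈ Set.range d, ∀ y ∈ Set.range d, x * y = y * x := by
    rintro _ ⟨g, rfl⟩ _ ⟨h, rfl⟩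
    rw [← map_mul, ← map_mul, hE]
  letI iR : CommRing (Subring.closure (Set.range d)) := Subring.closureCommRingOfComm hcomm
  let R := Subring.closure (Set.range d)
  let incl : E → R := fun h => ⟨d h, Subring.subset_closure ⟨h, rfl⟩⟩
  have hnz : ∀ x y : R, x * y = 0 → x = 0 ∨ y = 0 := by
    intro x y hxy
    have hxc : ∀ (g : E) (a : Additive A), (x : AddMonoid.End (Additive A)) (d g a) =
        d g ((x : AddMonoid.End (Additive A)) a) := by
      intro g a
      have h1 := congrArg Subtype.val (mul_comm x (incl g))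
      exact congrArg (fun T : AddMonoid.End (Additive A) => T a) h1
    let L : Subgroup A :=
      { carrier := {v | (x : AddMonoid.End (Additive A)) (Additive.ofMul v) = 0}
        one_mem' := map_zero _
        mul_mem' := by
          intro a b ha hb
          show (x : AddMonoid.End (Additive A)) (Additive.ofMul a + Additive.ofMul b) = 0
          rw [map_add, show (x : AddMonoid.End (Additive A)) (Additive.ofMul a) = 0 from ha,
            show (x : AddMonoid.End (Additive A)) (Additive.ofMul b) = 0 from hb, add_zero]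
        inv_mem' := by
          intro a ha
          show (x : AddMonoid.End (Additive A)) (- Additive.ofMul a) = 0
          rw [map_neg, show (x : AddMonoid.End (Additive A)) (Additive.ofMul a) = 0 from ha,
            neg_zero] }
    have hL : ∀ v, v ∈ L ↔ (x : AddMonoid.End (Additive A)) (Additive.ofMul v) = 0 := fun v => Iff.rfl
    have hLinv : ∀ e, ∀ v ∈ L, c e v ∈ L := by
      intro e v hv
      rw [hL] at hv ⊢
      rw [← hd, hxc, hv, map_zero]
    rcases hirr L hLinv with hb | ht
    · right
      apply Subtype.ext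
      ext a
      have h1 : ((x * y : R) : AddMonoid.End (Additive A)) = 0 := by
        rw [hxy]
        rfl
      have h2 : (x : AddMonoid.End (Additive A)) ((y : AddMonoid.End (Additive A)) (Additive.ofMul a))
          = 0 := congrArg (fun T : AddMonoid.End (Additive A) => T (Additive.ofMul a)) h1
      have h3 : Additive.toMul ((y : AddMonoid.End (Additive A)) (Additive.ofMul a)) ∈ L := h2
      rw [hb, Subgroup.mem_bot] at h3
      exact h3
    · left
      apply Subtype.ext
      ext a
      have h1 : a ∈ L := by rw [ht]; trivial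
      exact congrArg Additive.toMul h1
  haveI hnzd : NoZeroDivisors R := ⟨fun {x y} h => hnz x y h⟩
  obtain ⟨v₀, hv₀⟩ := exists_ne (1 : A)
  haveI hnt : Nontrivial R := by
    refine ⟨1, 0, fun h => ?_⟩
    have h1 : ((1 : R) : AddMonoid.End (Additive A)) = 0 := congrArg Subtype.val h
    have h2 := congrArg (fun T : AddMonoid.End (Additive A) => T (Additive.ofMul v₀)) h1
    exact hv₀ h2
  haveI hdom : IsDomain R := NoZeroDivisors.to_isDomain R
  let f : E →* R :=
    { toFun := incl
      map_one' := Subtype.ext (map_one d)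
      map_mul' := fun a b => Subtype.ext (map_mul d a b) }
  have hf : Function.Injective f := by
    rw [injective_iff_map_eq_one]
    intro e he
    have h1 : d e = 1 := congrArg Subtype.val he
    apply hc
    rw [map_one]
    ext a
    have h2 := congrArg (fun T : AddMonoid.End (Additive A) => T (Additive.ofMul a)) h1
    exact h2
  exact isCyclic_of_subgroup_isDomain f hf

section Main

variable (hV : ∀ a ∈ commutator H, ∀ b ∈ commutator H, a * b = b * a)
  (hmin : ∀ L : Subgroup H, L.Normal → L ≠ ⊥ → commutator H ≤ L)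

include hV hmin

/-- An element with a nontrivial fixed point on `V` centralizes `V`. -/
theorem fix_all {u v : H} (hv : v ∈ commutator H) (hv1 : v ≠ 1) (huv : u * v * u⁻¹ = v) :
    ∀ w ∈ commutator H, u * w * u⁻¹ = w := by
  have hn := fixSub_normal u (N := commutator H) (fun x hx d hd => hV d hd x hx)
  have hne : fixSub u (commutator H) ≠ ⊥ := by
    intro h
    have : v ∈ fixSub u (commutator H) := ⟨hv, huv⟩
    rw [h, Subgroup.mem_bot] at this
    exact hv1 this
  intro w hw
  exact (hmin _ hn hne hw).2

omit hmin in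
/-- The commutator map of a fixed point free element is surjective. -/
theorem exists_comm_eq [Finite H] {u : H} (hu : ∀ v ∈ commutator H, u * v * u⁻¹ = v → v = 1)
    {w : H} (hw : w ∈ commutator H) : ∃ v ∈ commutator H, u * v * u⁻¹ * v⁻¹ = w := by
  let φ : commutator H → commutator H := fun v => ⟨u * v * u⁻¹ * v⁻¹, comm_mem u v⟩
  have hinj : Function.Injective φ := by
    intro a b hab
    have h1 : u * (a : H) * u⁻¹ * (a : H)⁻¹ = u * (b : H) * u⁻¹ * (b : H)⁻¹ := congrArg Subtype.val hab
    have hn : ∀ x ∈ commutator H, u * x * u⁻¹ ∈ commutator H := fun x hx =>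
      (inferInstance : (commutator H).Normal).conj_mem x hx u
    have h2 : (u * (b : H) * u⁻¹)⁻¹ * (u * (a : H) * u⁻¹) = (b : H)⁻¹ * (a : H) := by
      have h3 : u * (a : H) * u⁻¹ = u * (b : H) * u⁻¹ * (b : H)⁻¹ * (a : H) := by
        rw [← h1]; group
      rw [h3]; group
    have h4 : u * ((a : H) * (b : H)⁻¹) * u⁻¹ = (a : H) * (b : H)⁻¹ := by
      calc u * ((a : H) * (b : H)⁻¹) * u⁻¹ = (u * (a : H) * u⁻¹) * (u * (b : H) * u⁻¹)⁻¹ := by group
        _ = (u * (b : H) * u⁻¹)⁻¹ * (u * (a : H) * u⁻¹) :=
          hV _ (hn _ a.2) _ ((commutator H).inv_mem (hn _ b.2))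
        _ = (b : H)⁻¹ * (a : H) := h2
        _ = (a : H) * (b : H)⁻¹ := hV _ ((commutator H).inv_mem b.2) _ a.2
    have h5 := hu _ ((commutator H).mul_mem a.2 ((commutator H).inv_mem b.2)) h4
    exact Subtype.ext (mul_inv_eq_one.mp h5)
  have hsurj := Finite.injective_iff_surjective.mp hinj
  obtain ⟨v, hv⟩ := hsurj ⟨w, hw⟩
  exact ⟨v, v.2, congrArg Subtype.val hv⟩

/-- The centralizer of `V` is `V`, and so elements outside `V` act fixed point freely. -/
theorem fpf_of_not_mem [Finite H] (hZ : Subgroup.center H = ⊥) (hne : commutator H ≠ ⊥) {u : H}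
    (hu : u ∉ commutator H) : ∀ v ∈ commutator H, u * v * u⁻¹ = v → v = 1 := by
  classical
  -- some element does not centralize `V`
  obtain ⟨h, w, hw, hhw⟩ : ∃ h : H, ∃ w ∈ commutator H, h * w * h⁻¹ ≠ w := by
    by_contra hcon
    push Not at hcon
    apply hne
    rw [eq_bot_iff, ← hZ]
    intro w hw
    rw [Subgroup.mem_center_iff]
    intro g
    have := hcon g w hw
    calc g * w = g * w * g⁻¹ * g := by group
      _ = w * g := by rw [this]
  have hfix : ∀ {y : H}, (∃ w ∈ commutator H, y * w * y⁻¹ ≠ w) →
      ∀ v ∈ commutator H, y * v * y⁻¹ = v → v = 1 := by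
    rintro y ⟨w, hw, hyw⟩ v hv hyv
    by_contra hv1
    exact hyw (fix_all hV hmin hv hv1 hyv w hw)
  have hh := hfix ⟨w, hw, hhw⟩
  -- the centralizer
  let C : Subgroup H := Subgroup.centralizer (commutator H : Set H)
  have hCmem : ∀ x, x ∈ C ↔ ∀ d ∈ commutator H, d * x = x * d := fun x => Subgroup.mem_centralizer_iff
  have hVC : ∀ x ∈ commutator H, x ∈ C := fun x hx => (hCmem x).2 fun d hd => hV d hd x hx
  have hCn : C.Normal := inferInstance
  have hn := fixSub_normal h (N := C) (fun x hx d hd => (hCmem x).1 hx d hd)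
  have hfixbot : fixSub h C = ⊥ := by
    by_contra hc
    have := hmin _ hn hc hw
    exact hhw this.2
  -- `C = V`
  have hCV : ∀ c ∈ C, c ∈ commutator H := by
    intro c hc
    obtain ⟨v, hv, hvc⟩ := exists_comm_eq hV hh (comm_mem h c)
    have hc' : v⁻¹ * c ∈ fixSub h C := by
      refine ⟨C.mul_mem (C.inv_mem (hVC v hv)) hc, ?_⟩
      have h1 : h * c * h⁻¹ = h * v * h⁻¹ * v⁻¹ * c := by
        rw [hvc]; group
      calc h * (v⁻¹ * c) * h⁻¹ = (h * v * h⁻¹)⁻¹ * (h * c * h⁻¹) := by group
        _ = v⁻¹ * c := by rw [h1]; group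
    rw [hfixbot, Subgroup.mem_bot] at hc'
    have : c = v := by
      have h2 : c = v * (v⁻¹ * c) := by group
      rw [h2, hc', mul_one]
    rw [this]
    exact hv
  apply hfix
  by_contra hcon
  push Not at hcon
  exact hu (hCV u ((hCmem u).2 fun d hd => by
    have := hcon d hd
    calc d * u = (u * d * u⁻¹) * u := by rw [this]
      _ = u * d := by group))

/-- `|V|` and `|H : V|` are coprime. -/
theorem coprime_card_index [Finite H] (hZ : Subgroup.center H = ⊥) (hne : commutator H ≠ ⊥) :
    (Nat.card (commutator H)).Coprime (commutator H).index := by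
  classical
  by_contra hcop
  obtain ⟨q, hq, hq1, hq2⟩ := Nat.Prime.not_coprime_iff_dvd.mp hcop
  haveI : Fact q.Prime := ⟨hq⟩
  let P : Sylow q H := default
  have hPV : ∃ u ∈ (P : Subgroup H), u ∉ commutator H := by
    by_contra hcon
    push Not at hcon
    have h1 : (commutator H).index ∣ (P : Subgroup H).index := Subgroup.index_dvd_of_le hcon
    exact P.not_dvd_index (hq2.trans h1)
  obtain ⟨u, huP, huV⟩ := hPV
  letI : MulAction (P : Subgroup H) (commutator H) :=
    MulAction.compHom (commutator H) ((MulAut.conjNormal (H := commutator H)).comp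
      (P : Subgroup H).subtype)
  have hsm : ∀ (x : (P : Subgroup H)) (v : commutator H),
      ((x • v : commutator H) : H) = (x : H) * v * (x : H)⁻¹ := fun x v => rfl
  have h1fix : (1 : commutator H) ∈ MulAction.fixedPoints (P : Subgroup H) (commutator H) := by
    intro x
    apply Subtype.ext
    rw [hsm]
    simp
  obtain ⟨z, hz, hz1⟩ := P.isPGroup'.exists_fixed_point_of_prime_dvd_card_of_fixed_point
    (commutator H) hq1 h1fix
  have hfz := congrArg Subtype.val (hz ⟨u, huP⟩)
  rw [hsm] at hfz
  have := fpf_of_not_mem hV hmin hZ hne huV z z.2 hfz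
  exact hz1 (Subtype.ext (this ▸ rfl))

/-- `H / V` is cyclic. -/
theorem isCyclic_quotient [Finite H] (hZ : Subgroup.center H = ⊥) (hne : commutator H ≠ ⊥) :
    IsCyclic (H ⧸ commutator H) := by
  classical
  letI iV : CommGroup (commutator H) :=
    { (inferInstance : Group (commutator H)) with
      mul_comm := fun a b => Subtype.ext (hV a a.2 b b.2) }
  haveI hntV : Nontrivial (commutator H) := (Subgroup.nontrivial_iff_ne_bot _).2 hne
  have hle : commutator H ≤ (MulAut.conjNormal (G := H) (H := commutator H)).ker := by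
    intro d hd
    rw [MonoidHom.mem_ker]
    ext v
    show d * (v : H) * d⁻¹ = v
    rw [hV d hd v v.2]
    group
  let c : H ⧸ commutator H →* MulAut (commutator H) := QuotientGroup.lift _ MulAut.conjNormal hle
  have hcv : ∀ (h : H) (v : commutator H), ((c (h : H ⧸ commutator H) v : commutator H) : H) =
      h * v * h⁻¹ := fun h v => rfl
  refine isCyclic_of_irreducible c ?_ ?_ ?_
  · rw [injective_iff_map_eq_one]
    intro a ha
    obtain ⟨h, rfl⟩ := QuotientGroup.mk_surjective a
    rw [QuotientGroup.eq_one_iff]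
    by_contra hh
    obtain ⟨v₀, hv₀⟩ := exists_ne (1 : commutator H)
    have hfix : h * (v₀ : H) * h⁻¹ = v₀ := by
      rw [← hcv, ha]
      rfl
    exact hv₀ (Subtype.ext (fpf_of_not_mem hV hmin hZ hne hh _ v₀.2 hfix))
  · intro a b
    obtain ⟨x, rfl⟩ := QuotientGroup.mk_surjective a
    obtain ⟨y, rfl⟩ := QuotientGroup.mk_surjective b
    rw [← QuotientGroup.mk_mul, ← QuotientGroup.mk_mul, QuotientGroup.eq]
    have : (x * y)⁻¹ * (y * x) = y⁻¹ * x⁻¹ * y⁻¹⁻¹ * x⁻¹⁻¹ := by group
    rw [this]
    exact comm_mem _ _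
  · intro L hL
    have hn : (L.map (commutator H).subtype).Normal := by
      refine ⟨?_⟩
      rintro _ ⟨v, hv, rfl⟩ g
      exact ⟨_, hL (g : H ⧸ commutator H) v hv, rfl⟩
    by_cases hb : L.map (commutator H).subtype = ⊥
    · left
      rw [Subgroup.map_eq_bot_iff_of_injective _ (commutator H).subtype_injective] at hb
      exact hb
    · right
      have h1 := hmin _ hn hb
      rw [eq_top_iff]
      intro v _
      obtain ⟨w, hw, hwv⟩ := h1 v.2
      have : w = v := Subtype.ext hwv
      exact this ▸ hw

end Main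

end Cfsg.Agent.Lib.Char.ThreeDeg
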