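import Mathlib
import Cfsg.Agent.S0886
import Cfsg.Agent.Lib.Char.Monomial
import Cfsg.Agent.Lib.Char.PrimeIndex
import Cfsg.Agent.Lib.Char.CoprimeCount

/-!
# Degrees of a normal subgroup with cyclic quotient which admits a Frobenius-like linear character
-/

set_option autoImplicit false
set_option linter.style.haveILetI false

namespace Cfsg.Agent.Lib.Char.ThreeDeg

open Cfsg Cfsg.Agent.Lib.Char Cfsg.Agent.Lib.Char.Basic Cfsg.Agent.Lib.Char.Ortho
  Cfsg.Agent.Lib.Char.Induced Cfsg.Agent.Lib.Char.Monomial Cfsg.Agent.Lib.Char.CliffordCorr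
  Cfsg.Agent.Lib.Char.PrimeIndex Cfsg.Agent.Lib.Char.TwistDet
open scoped ComplexConjugate

universe u

variable {G : Type u} [Group G]

/-- Subgroups above `N` of equal index are equal when `G/N` is cyclic. -/
theorem eq_of_index_eq_of_isCyclic [Finite G] (N : Subgroup G) [hN : N.Normal] (hc : IsCyclic (G ⧸ N))
    {T T' : Subgroup G} (hT : N ≤ T) (hT' : N ≤ T') (hidx : T.index = T'.index) : T = T' := by
  classical
  let π := QuotientGroup.mk' N
  have hπ : Function.Surjective π := QuotientGroup.mk'_surjective N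
  have hker : π.ker = N := QuotientGroup.ker_mk' N
  have hidxS : ∀ {S : Subgroup G}, N ≤ S → (S.map π).index = S.index := by
    intro S hS
    have h1 : (S.map π).comap π = S := by
      rw [Subgroup.comap_map_eq_self]
      rw [hker]
      exact hS
    rw [← Subgroup.index_comap_of_surjective _ hπ, h1]
  haveI : Fintype (G ⧸ N) := Fintype.ofFinite _
  have hcardS : ∀ {S : Subgroup G}, N ≤ S → Nat.card (S.map π) * S.index = Nat.card (G ⧸ N) := by
    intro S hS
    rw [← hidxS hS]
    exact Subgroup.card_mul_index _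
  have hposQ : 0 < Nat.card (G ⧸ N) := Nat.card_pos
  have hcc : Nat.card (T.map π) = Nat.card (T'.map π) := by
    have h1 := hcardS hT
    have h2 := hcardS hT'
    rw [hidx] at h1
    have h3 : T'.index ≠ 0 := Subgroup.index_ne_zero_of_finite
    exact Nat.eq_of_mul_eq_mul_right (Nat.pos_of_ne_zero h3) (h1.trans h2.symm)
  set m := Nat.card (T.map π) with hm
  have hmpos : 0 < m := Nat.card_pos
  -- the set of elements of exponent `m`
  have hset : ∀ S : Subgroup (G ⧸ N), Nat.card S = m → ∀ x : G ⧸ N, x ∈ S ↔ x ^ m = 1 := by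
    intro S hS
    let F : Finset (G ⧸ N) := Finset.univ.filter fun a => a ^ m = 1
    have hF : F.card ≤ m := IsCyclic.card_pow_eq_one_le hmpos
    let FS : Finset (G ⧸ N) := Finset.univ.filter fun a => a ∈ S
    have hFScard : FS.card = m := by
      rw [← hS, Nat.card_eq_fintype_card, Fintype.card_subtype]
    have hsub : FS ⊆ F := by
      intro a ha
      have ha' : a ∈ S := (Finset.mem_filter.1 ha).2
      have h1 : (⟨a, ha'⟩ : S) ^ m = 1 := by
        rw [← hS]
        exact pow_card_eq_one'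
      have h2 := congrArg Subtype.val h1
      exact Finset.mem_filter.2 ⟨Finset.mem_univ _, by simpa using h2⟩
    have heq : FS = F := Finset.eq_of_subset_of_card_le hsub (by rw [hFScard]; exact hF)
    intro x
    constructor
    · intro hx
      have : x ∈ F := heq ▸ (Finset.mem_filter.2 ⟨Finset.mem_univ _, hx⟩ : x ∈ FS)
      exact (Finset.mem_filter.1 this).2
    · intro hx
      have h1 : x ∈ FS := heq ▸ (Finset.mem_filter.2 ⟨Finset.mem_univ _, hx⟩ : x ∈ F)
      exact (Finset.mem_filter.1 h1).2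
  have hmap : T.map π = T'.map π := by
    ext x
    rw [hset (T.map π) rfl x, hset (T'.map π) hcc.symm x]
  have h1 : (T.map π).comap π = T := by
    rw [Subgroup.comap_map_eq_self]
    rw [hker]
    exact hT
  have h2 : (T'.map π).comap π = T' := by
    rw [Subgroup.comap_map_eq_self]
    rw [hker]
    exact hT'
  rw [← h1, hmap, h2]

/-- `N` lies in the inertia group. -/
theorem le_inertiaOf (N : Subgroup G) [N.Normal] [Finite G] {τ : N → ℂ} (hτ : IsCharacter N τ) :
    N ≤ inertiaOf N τ := by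
  intro m hm b
  have := isClassFunction_of_isCharacter hτ b ⟨m, hm⟩
  exact this

/-- Over an irreducible character of `N` with `G/N` cyclic there is an irreducible character of
degree `|G : T| τ(1)`. -/
theorem exists_irr_over_of_cyclic [Fintype G] (N : Subgroup G) [hN : N.Normal] [Fintype N]
    (hc : IsCyclic (G ⧸ N)) {τ : N → ℂ} (hτ : IsIrrCharacter N τ) :
    ∃ χ : G → ℂ, IsIrrCharacter G χ ∧ χ 1 = ((inertiaOf N τ).index : ℂ) * τ 1 := by
  classical
  set T := inertiaOf N τ with hTdef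
  have hNT : N ≤ T := le_inertiaOf N (isCharacter_of_isIrrCharacter hτ)
  haveI : Fintype T := Fintype.ofFinite _
  -- the quotient `T / N` is cyclic
  have hcT : IsCyclic (T ⧸ N.subgroupOf T) := by
    let φ : T →* G ⧸ N := (QuotientGroup.mk' N).comp T.subtype
    have hle : N.subgroupOf T ≤ φ.ker := by
      intro x hx
      rw [MonoidHom.mem_ker]
      exact (QuotientGroup.eq_one_iff _).2 hx
    let φ' : T ⧸ N.subgroupOf T →* G ⧸ N := QuotientGroup.lift _ φ hle
    refine isCyclic_of_injective φ' ?_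
    rw [injective_iff_map_eq_one]
    intro a ha
    obtain ⟨x, rfl⟩ := QuotientGroup.mk_surjective a
    have h1 : φ x = 1 := ha
    rw [QuotientGroup.eq_one_iff]
    exact (QuotientGroup.eq_one_iff (x : G)).1 h1
  -- the character on `N.subgroupOf T`
  let e : N.subgroupOf T →* N :=
    { toFun := fun x => ⟨x.1.1, x.2⟩
      map_one' := rfl
      map_mul' := fun _ _ => rfl }
  have hes : Function.Surjective e := fun n => ⟨⟨⟨n.1, hNT n.2⟩, n.2⟩, rfl⟩
  have hτ' := isIrrCharacter_comp_surjective hτ e hes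
  have hinv : ∀ (g : T) (n : N.subgroupOf T), (fun x => τ (e x))
      ⟨g * n * g⁻¹, (inferInstance : (N.subgroupOf T).Normal).conj_mem n n.2 g⟩ =
      (fun x => τ (e x)) n := by
    intro g n
    exact g.2 (e n)
  obtain ⟨ψ, hψ, hext⟩ := Cfsg.Agent.S0886.result (N.subgroupOf T) hcT _ hτ' hinv
  have hres : resT N T hNT ψ = τ := by
    funext n
    exact hext ⟨⟨n.1, hNT n.2⟩, n.2⟩
  have hne : classInner (resT N T hNT ψ) τ ≠ 0 := by
    rw [hres, classInner_irr_self hτ]
    exact one_ne_zero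
  refine ⟨indFun T ψ, isIrr_indFun N τ T hNT hτ (fun g => mem_inertiaOf N τ g) hψ hne, ?_⟩
  rw [indFun_one]
  congr 1
  exact congrFun hres 1

/-- **The key lemma.** -/
theorem degree_of_frob_data [Fintype G] (N : Subgroup G) [hN : N.Normal] [Fintype N]
    (hcyc : IsCyclic (G ⧸ N)) (μ : N →* ℂˣ) {M : ℕ} (hM : ∀ a, μ a ^ M = 1)
    (hcop : M.Coprime N.index)
    (hμ : ∀ u : G, u ∉ N → ∃ v : N, μ ⟨u * v * u⁻¹, hN.conj_mem v v.2 u⟩ ≠ μ v)
    {g : ℕ} (hfg : N.index.Coprime g)
    (hcd : ∀ χ : IrrCharacter G, charDegree (χ : G → ℂ) = 1 ∨ charDegree (χ : G → ℂ) = N.index ∨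
      charDegree (χ : G → ℂ) = g)
    (τ : IrrCharacter N) : charDegree (τ : N → ℂ) = 1 ∨ charDegree (τ : N → ℂ) = g := by
  classical
  set d := charDegree (τ : N → ℂ) with hd
  have hτd : (τ : N → ℂ) 1 = d := (Values.IsCharacter.charDegree_cast
    (Values.IsIrrCharacter.isCharacter τ.2)).symm
  by_cases hd1 : d = 1
  · exact Or.inl hd1
  right
  have hdpos : 0 < d := by
    obtain ⟨n, hn, h⟩ := irr_degree_pos τ.2
    rw [hτd] at h
    have : d = n := by exact_mod_cast h
    omega
  -- the general analysis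
  have key : ∀ {σ : N → ℂ}, IsIrrCharacter N σ → σ 1 = d →
      d = g ∨ (inertiaOf N σ).index * d = N.index := by
    intro σ hσ hσd
    obtain ⟨χ, hχ, hχ1⟩ := exists_irr_over_of_cyclic N hcyc hσ
    have hdeg : charDegree χ = (inertiaOf N σ).index * d := by
      apply Values.IsCharacter.charDegree_eq (Values.IsIrrCharacter.isCharacter hχ)
      rw [hχ1, hσd]
      push_cast
      rfl
    have hNT : N ≤ inertiaOf N σ := le_inertiaOf N (isCharacter_of_isIrrCharacter hσ)
    rcases hcd ⟨χ, hχ⟩ with h | h | h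
    · exfalso
      rw [hdeg] at h
      exact hd1 (Nat.eq_one_of_mul_eq_one_left h)
    · right
      rw [← hdeg]
      exact h
    · left
      have h2 : (inertiaOf N σ).index * d = g := by rw [← hdeg]; exact h
      have h3 : (inertiaOf N σ).index ∣ N.index := Subgroup.index_dvd_of_le hNT
      have h4 : (inertiaOf N σ).index ∣ g := ⟨d, h2.symm⟩
      have h5 : (inertiaOf N σ).index = 1 := Nat.eq_one_of_dvd_coprimes hfg h3 h4
      rw [h5, one_mul] at h2
      exact h2
  -- the twist
  have hσ : IsIrrCharacter N (fun n => (τ : N → ℂ) n * ((μ n : ℂˣ) : ℂ)) := isIrr_mul_hom τ.2 μ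
  have hσ1 : (fun n => (τ : N → ℂ) n * ((μ n : ℂˣ) : ℂ)) 1 = d := by
    simp [hτd]
  rcases key τ.2 hτd with h1 | h1
  · exact h1
  rcases key hσ hσ1 with h2 | h2
  · exact h2
  exfalso
  set σ : N → ℂ := fun n => (τ : N → ℂ) n * ((μ n : ℂˣ) : ℂ) with hσdef
  have hNT : N ≤ inertiaOf N (τ : N → ℂ) := le_inertiaOf N (isCharacter_of_isIrrCharacter τ.2)
  have hNT' : N ≤ inertiaOf N σ := le_inertiaOf N (isCharacter_of_isIrrCharacter hσ)
  have hidx : (inertiaOf N (τ : N → ℂ)).index = (inertiaOf N σ).index :=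
    Nat.eq_of_mul_eq_mul_right hdpos (h1.trans h2.symm)
  have hTT := eq_of_index_eq_of_isCyclic N hcyc hNT hNT' hidx
  -- an element outside `N`
  obtain ⟨u, huT, huN⟩ : ∃ u ∈ inertiaOf N (τ : N → ℂ), u ∉ N := by
    by_contra hcon
    push Not at hcon
    have h3 : inertiaOf N (τ : N → ℂ) = N := le_antisymm hcon hNT
    rw [h3] at h1
    have hNpos : 0 < N.index := Nat.pos_of_ne_zero Subgroup.index_ne_zero_of_finite
    have h4 : N.index * d = N.index * 1 := by rw [h1, mul_one]
    exact hd1 (Nat.eq_of_mul_eq_mul_left hNpos h4)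
  have huT' : u ∈ inertiaOf N σ := hTT ▸ huT
  rw [mem_inertiaOf] at huT huT'
  let ν : N →* ℂˣ := (μ.comp (MulAut.conjNormal u).toMonoidHom) * μ⁻¹
  have hνa : ∀ a : N, ν a = μ ⟨u * a * u⁻¹, hN.conj_mem a a.2 u⟩ * (μ a)⁻¹ := fun a => rfl
  have htw : ∀ a, (τ : N → ℂ) a * ((ν a : ℂˣ) : ℂ) = (τ : N → ℂ) a := by
    intro a
    have h3 := huT' a
    simp only [hσdef, huT a] at h3
    rw [hνa, Units.val_mul, ← mul_assoc, h3, mul_assoc, ← Units.val_mul, mul_inv_cancel,
      Units.val_one, mul_one]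
  have hνd := pow_eq_one_of_twist τ.2 ν htw hτd
  have hνM : ∀ a, ν a ^ M = 1 := by
    intro a
    rw [hνa, mul_pow, inv_pow, hM, hM, inv_one, mul_one]
  have hdf : d ∣ N.index := ⟨_, by rw [← h1, mul_comm]⟩
  have hcop' : M.Coprime d := Nat.Coprime.coprime_dvd_right hdf hcop
  have hν1 : ∀ a, ν a = 1 := by
    intro a
    have h3 : ν a ^ d = 1 := by
      apply Units.ext
      rw [Units.val_pow_eq_pow_val, Units.val_one]
      exact hνd a
    have h4 := orderOf_dvd_of_pow_eq_one h3
    have h5 := orderOf_dvd_of_pow_eq_one (hνM a)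
    have h6 := Nat.eq_one_of_dvd_coprimes hcop' h5 h4
    exact orderOf_eq_one_iff.mp h6
  obtain ⟨v, hv⟩ := hμ u huN
  apply hv
  have h3 := hν1 v
  rw [hνa] at h3
  exact mul_inv_eq_one.mp h3

end Cfsg.Agent.Lib.Char.ThreeDeg
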