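import Mathlib
import Cfsg.Agent.S4458
import Cfsg.Agent.S0855
import Cfsg.Agent.Lib.Char.ThreeDeg.DegDvd
import Cfsg.Agent.Lib.Char.ThreeDeg.CoprimeProd
import Cfsg.Agent.Lib.Char.ThreeDeg.JustNonab
import Cfsg.Agent.Lib.Char.ThreeDeg.KeyD
import Cfsg.Agent.Lib.Char.PDerived
import Cfsg.Agent.Lib.Char.FrobPair

/-!
# Three character degrees, the two nonlinear ones being coprime

`coprime_case`: if `cd(G) ⊆ {1, a, b}` with `a, b > 1` coprime and both occurring, then `G‴ = 1`.
-/

set_option autoImplicit false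
set_option linter.style.haveILetI false

namespace Cfsg.Agent.Lib.Char.ThreeDeg

open Cfsg Cfsg.Agent.Lib.Char Cfsg.Agent.Lib.Char.Basic Cfsg.Agent.Lib.Char.Ortho
  Cfsg.Agent.Lib.Char.Induced Cfsg.Agent.Lib.Char.Monomial Cfsg.Agent.Lib.Char.CliffordCorr
  Cfsg.Agent.Lib.Char.PDerived
open scoped ComplexConjugate

universe u

theorem commutator_eq_bot_of_comm {G : Type*} [Group G] (h : ∀ a b : G, a * b = b * a) :
    commutator G = ⊥ := by
  rw [commutator_def, eq_bot_iff, Subgroup.commutator_le]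
  intro a _ b _
  rw [Subgroup.mem_bot, commutatorElement_eq_one_iff_mul_comm]
  exact h a b

/-- Derived length at most two for at most two degrees. -/
theorem derived_two {G : Type u} [Group G] [Finite G] {m : ℕ}
    (hcd : ∀ χ : IrrCharacter G, charDegree (χ : G → ℂ) = 1 ∨ charDegree (χ : G → ℂ) = m) :
    derivedSeries G 2 = ⊥ := by
  by_cases h : ∃ χ : IrrCharacter G, charDegree (χ : G → ℂ) ≠ 1
  · obtain ⟨χ, hχ⟩ := h
    have hm : charDegree (χ : G → ℂ) = m := (hcd χ).resolve_left hχ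
    have hm1 : m ≠ 1 := hm ▸ hχ
    have hc := Cfsg.Agent.S4458.result m hcd ⟨χ, hm⟩ hm1
    rw [derivedSeries_succ, derivedSeries_one, eq_bot_iff, Subgroup.commutator_le]
    intro a ha b hb
    rw [Subgroup.mem_bot, commutatorElement_eq_one_iff_mul_comm]
    exact hc a ha b hb
  · push Not at h
    have hc := Cfsg.Agent.S0855.commutative_of_all_linear (K := G) (fun χ => by
      rw [← Values.IsCharacter.charDegree_cast (Values.IsIrrCharacter.isCharacter χ.2), h χ]
      simp)
    have h1 := commutator_eq_bot_of_comm hc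
    rw [eq_bot_iff]
    refine (derivedSeries_antitone G (by norm_num : 1 ≤ 2)).trans ?_
    rw [derivedSeries_one, h1]

theorem derivedSeries_le_map {G : Type*} [Group G] (W : Subgroup G) {k l : ℕ}
    (h : derivedSeries G k ≤ (derivedSeries W l).map W.subtype) (n : ℕ) :
    derivedSeries G (k + n) ≤ (derivedSeries W (l + n)).map W.subtype := by
  induction n with
  | zero => simpa using h
  | succ n ih =>
    rw [← add_assoc, ← add_assoc, derivedSeries_succ, derivedSeries_succ, Subgroup.map_commutator]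
    exact Subgroup.commutator_mono ih ih

theorem charDegree_comp {G H : Type*} [Group G] [Group H] (π : G →* H) (ζ : H → ℂ) :
    charDegree (fun g => ζ (π g)) = charDegree ζ := by
  unfold charDegree
  simp [map_one]

/-- A nonlinear irreducible character of a group whose proper quotients are abelian is faithful. -/
theorem faithful_of_min {H : Type*} [Group H] [Finite H]
    (hmin : ∀ L : Subgroup H, L.Normal → L ≠ ⊥ → commutator H ≤ L) {ξ : H → ℂ}
    (hξ : IsIrrCharacter H ξ) (h1 : ξ 1 ≠ 1) {x : H} (hx : ξ x = ξ 1) : x = 1 := by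
  obtain ⟨n, ρ, hirr, rfl⟩ := hξ
  by_cases hL : MonoidHom.ker ρ = ⊥
  · have h2 : ρ x = LinearMap.id := by
      apply (Values.character_eq_finrank_iff ρ x).1
      rw [hx, Representation.char_one]
    have h3 : x ∈ MonoidHom.ker ρ := h2
    rw [hL] at h3
    exact h3
  · exfalso
    have h2 := hmin _ (MonoidHom.normal_ker ρ) hL
    apply h1
    apply one_eq_one_of_commutator_le_ker ⟨n, ρ, hirr, rfl⟩
    intro c hc
    have h3 : ρ c = 1 := h2 hc
    have h4 : ρ c = ρ 1 := by rw [h3, map_one]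
    show LinearMap.trace ℂ (Fin n → ℂ) (ρ c) = LinearMap.trace ℂ (Fin n → ℂ) (ρ 1)
    rw [h4]

/-- A sum over a subgroup. -/
theorem sum_eq_sum_subgroup {G : Type*} [Group G] [Fintype G] (Z : Subgroup G) [Fintype Z]
    (F : G → ℂ) (h : ∀ x, x ∉ Z → F x = 0) : ∑ x : G, F x = ∑ z : Z, F z := by
  classical
  have h1 : ∑ x : G, F x = ∑ x ∈ Finset.univ.filter (· ∈ Z), F x := by
    symm
    apply Finset.sum_subset (Finset.subset_univ _)
    intro x _ hx
    apply h
    simpa using hx
  rw [h1]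
  exact Finset.sum_subtype _ (fun x => by simp) F

/-- The product with a fully ramified character is irreducible. -/
theorem isIrr_mul_of_vanish {G : Type*} [Group G] [Fintype G] (Z : Subgroup G) [Fintype Z]
    {χ ξ : G → ℂ} (hχ : IsCharacter G χ) (hξ : IsCharacter G ξ)
    (hres : IsIrrCharacter Z (fun z : Z => χ z)) {f : ℕ} (hv : ∀ x, x ∉ Z → ξ x = 0)
    (hn : ∀ x, x ∈ Z → ξ x * conj (ξ x) = (f : ℂ) ^ 2) (hidx : Z.index = f ^ 2) :
    IsIrrCharacter G (χ * ξ) := by
  classical
  apply isIrrCharacter_of_classInner_self_eq_one (isCharacter_mul hχ hξ)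
  have h1 := classInner_irr_self hres
  rw [classInner] at h1 ⊢
  rw [sum_eq_sum_subgroup Z _ (fun x hx => by simp [hv x hx])]
  have h2 : ∀ z : Z, (χ * ξ) z * conj ((χ * ξ) z) =
      (f : ℂ) ^ 2 * (χ z * conj (χ z)) := by
    intro z
    simp only [Pi.mul_apply, map_mul]
    have := hn z z.2
    linear_combination (χ z * conj (χ z)) * this
  rw [Finset.sum_congr rfl (fun z _ => h2 z), ← Finset.mul_sum]
  have hZ : (Nat.card Z : ℂ) ≠ 0 := Nat.cast_ne_zero.2 Nat.card_pos.ne'
  have h3 : ∑ z : Z, χ z * conj (χ z) = (Nat.card Z : ℂ) := by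
    field_simp at h1
    exact h1
  rw [h3]
  have h4 : (Nat.card G : ℂ) = (f : ℂ) ^ 2 * Nat.card Z := by
    have := Z.card_mul_index
    rw [hidx] at this
    rw [← this]
    push_cast
    ring
  rw [h4]
  have hf : (f : ℂ) ^ 2 ≠ 0 := by
    have h5 : Z.index ≠ 0 := Subgroup.index_ne_zero_of_finite
    rw [hidx] at h5
    exact_mod_cast h5
  exact inv_mul_cancel₀ (mul_ne_zero hf hZ)

/-- The central case is impossible. -/
theorem central_case {G H : Type u} [Group G] [Fintype G] [Group H] [Fintype H] (π : G →* H)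
    (hπ : Function.Surjective π) (hmin : ∀ L : Subgroup H, L.Normal → L ≠ ⊥ → commutator H ≤ L)
    (hne : commutator H ≠ ⊥) (hZ : Subgroup.center H ≠ ⊥) {a b : ℕ} (ha : 1 < a) (hb : 1 < b)
    (hab : a.Coprime b)
    (hcd : ∀ χ : IrrCharacter G, charDegree (χ : G → ℂ) = 1 ∨ charDegree (χ : G → ℂ) = a ∨
      charDegree (χ : G → ℂ) = b)
    (hχa : ∃ χ : IrrCharacter G, charDegree (χ : G → ℂ) = a)
    (hχb : ∃ χ : IrrCharacter G, charDegree (χ : G → ℂ) = b) : False := by
  classical
  have hle : commutator H ≤ Subgroup.center H := hmin _ inferInstance hZ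
  -- a nonlinear character of `H`
  obtain ⟨ξ, hξ1⟩ : ∃ ξ : IrrCharacter H, (ξ : H → ℂ) 1 ≠ 1 := by
    by_contra hcon
    push Not at hcon
    exact hne (commutator_eq_bot_of_comm (Cfsg.Agent.S0855.commutative_of_all_linear hcon))
  have hfaith : ∀ {x : H}, (ξ : H → ℂ) x = (ξ : H → ℂ) 1 → x = 1 := fun hx =>
    faithful_of_min hmin ξ.2 hξ1 hx
  have hvan : ∀ y, y ∉ Subgroup.center H → (ξ : H → ℂ) y = 0 := by
    intro y hy
    rw [Subgroup.mem_center_iff] at hy
    push Not at hy
    obtain ⟨w, hw⟩ := hy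
    have hz : w * y * w⁻¹ * y⁻¹ ∈ Subgroup.center H := hle (comm_mem w y)
    have hz1 : w * y * w⁻¹ * y⁻¹ ≠ 1 := by
      intro h
      apply hw
      have h2 : w * y * w⁻¹ = y := by
        rw [mul_inv_eq_one] at h
        exact h
      calc w * y = w * y * w⁻¹ * w := by group
        _ = y * w := by rw [h2]
    refine eq_zero_of_conj_eq_central_mul ξ.2 hz (y := w) (x := y) (by group) ?_
    intro h
    exact hz1 (hfaith h)
  set f := charDegree (ξ : H → ℂ) with hf
  have hξf : (ξ : H → ℂ) 1 = f := (Values.IsCharacter.charDegree_cast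
    (Values.IsIrrCharacter.isCharacter ξ.2)).symm
  have hf1 : f ≠ 1 := by
    intro h
    apply hξ1
    rw [hξf, h]
    simp
  -- the index of the centre
  have hsq := deg_sq_mul_card_center_eq ξ.2 hvan
  have hnorm : ‖(ξ : H → ℂ) 1‖ = f := by
    rw [hξf, Complex.norm_natCast]
  rw [hnorm] at hsq
  have hsq' : f ^ 2 * Nat.card (Subgroup.center H) = Nat.card H := by exact_mod_cast hsq
  have hidx : (Subgroup.center H).index = f ^ 2 := by
    have h1 := (Subgroup.center H).card_mul_index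
    rw [← hsq', mul_comm] at h1
    exact Nat.eq_of_mul_eq_mul_right Nat.card_pos h1
  -- up in `G`
  let Z : Subgroup G := (Subgroup.center H).comap π
  haveI hZn : Z.Normal := (inferInstance : (Subgroup.center H).Normal).comap π
  haveI : Fintype Z := Fintype.ofFinite _
  have hZidx : Z.index = f ^ 2 := by
    rw [Subgroup.index_comap_of_surjective _ hπ, hidx]
  have hsolv : Group.IsSolvable (G ⧸ Z) := by
    apply Group.isSolvable_of_comm
    intro x y
    obtain ⟨x, rfl⟩ := QuotientGroup.mk_surjective x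
    obtain ⟨y, rfl⟩ := QuotientGroup.mk_surjective y
    rw [← QuotientGroup.mk_mul, ← QuotientGroup.mk_mul, QuotientGroup.eq]
    show π _ ∈ Subgroup.center H
    apply hle
    have h1 : (x * y)⁻¹ * (y * x) = y⁻¹ * x⁻¹ * y⁻¹⁻¹ * x⁻¹⁻¹ := by group
    rw [h1]
    simp only [map_mul, map_inv]
    exact comm_mem _ _
  have hcdH : f = a ∨ f = b := by
    have h1 := hcd ⟨fun g => (ξ : H → ℂ) (π g), isIrrCharacter_comp_surjective ξ.2 π hπ⟩
    simp only [charDegree_comp] at h1
    rcases h1 with h1 | h1 | h1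
    · exact absurd h1 hf1
    · exact Or.inl h1
    · exact Or.inr h1
  -- the other degree
  obtain ⟨χ, hχg, hcopg⟩ : ∃ χ : IrrCharacter G, (charDegree (χ : G → ℂ) = a ∧ f = b ∨
      charDegree (χ : G → ℂ) = b ∧ f = a) ∧ (charDegree (χ : G → ℂ)).Coprime (f ^ 2) := by
    rcases hcdH with h | h
    · obtain ⟨χ, hχ⟩ := hχb
      refine ⟨χ, Or.inr ⟨hχ, h⟩, ?_⟩
      rw [hχ, h]
      exact (Nat.Coprime.pow_right 2 hab.symm)
    · obtain ⟨χ, hχ⟩ := hχa
      refine ⟨χ, Or.inl ⟨hχ, h⟩, ?_⟩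
      rw [hχ, h]
      exact (Nat.Coprime.pow_right 2 hab)
  have hχ1 : (χ : G → ℂ) 1 = charDegree (χ : G → ℂ) := (Values.IsCharacter.charDegree_cast
    (Values.IsIrrCharacter.isCharacter χ.2)).symm
  have hres := isIrr_res_of_coprime_index Z hsolv χ.2 hχ1 (by rw [hZidx]; exact hcopg)
  have hirr : IsIrrCharacter G ((χ : G → ℂ) * fun g => (ξ : H → ℂ) (π g)) := by
    apply isIrr_mul_of_vanish Z (isCharacter_of_isIrrCharacter χ.2)
      (isCharacter_of_isIrrCharacter (isIrrCharacter_comp_surjective ξ.2 π hπ)) hres (f := f)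
      (fun x hx => hvan _ hx) ?_ hZidx
    intro x hx
    have h1 := norm_central_eq ξ.2 hx
    rw [hnorm] at h1
    rw [Complex.mul_conj', h1]
    simp
  have hdeg : charDegree ((χ : G → ℂ) * fun g => (ξ : H → ℂ) (π g)) =
      charDegree (χ : G → ℂ) * f := by
    apply Values.IsCharacter.charDegree_eq (Values.IsIrrCharacter.isCharacter hirr)
    simp only [Pi.mul_apply, map_one]
    rw [hχ1, hξf]
    push_cast
    rfl
  have h1 := hcd ⟨_, hirr⟩
  simp only [hdeg] at h1
  rcases hχg with ⟨h2, h3⟩ | ⟨h2, h3⟩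
  · rw [h2, h3] at h1
    rcases h1 with h1 | h1 | h1 <;> nlinarith
  · rw [h2, h3] at h1
    rcases h1 with h1 | h1 | h1 <;> nlinarith

/-- The centre of a nonlinear irreducible character is trivial. -/
theorem norm_ne_of_center_bot {H : Type*} [Group H] [Finite H]
    (hmin : ∀ L : Subgroup H, L.Normal → L ≠ ⊥ → commutator H ≤ L)
    (hZ : Subgroup.center H = ⊥) {ζ : H → ℂ} (hζ : IsIrrCharacter H ζ) (h1 : ζ 1 ≠ 1) {x : H}
    (hx : x ≠ 1) : ‖ζ x‖ ≠ ‖ζ 1‖ := by
  intro h
  apply hx
  have hcent : x ∈ Subgroup.center H := by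
    rw [Subgroup.mem_center_iff]
    intro y
    obtain ⟨n, ρ, hirr, rfl⟩ := hζ
    have h2 : ‖ρ.character x‖ = (Module.finrank ℂ (Fin n → ℂ) : ℝ) := by
      rw [h, Representation.char_one, Complex.norm_natCast]
    obtain ⟨ω, hω⟩ := (Values.norm_character_eq_iff ρ x).1 h2
    have h3 : ρ (y * x) = ρ (x * y) := by
      rw [map_mul, map_mul, hω]
      ext v
      simp
    have h4 : ρ.character (y * x * (x * y)⁻¹) = ρ.character 1 := by
      have h5 : ρ (y * x * (x * y)⁻¹) = ρ 1 := by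
        rw [map_mul, h3, ← map_mul]
        simp
      unfold Representation.character
      rw [h5]
    have h5 := faithful_of_min hmin ⟨n, ρ, hirr, rfl⟩ h1 h4
    exact mul_inv_eq_one.mp h5
  rw [hZ, Subgroup.mem_bot] at hcent
  exact hcent

/-- The centerless case. -/
theorem centerless_case {G H : Type u} [Group G] [Fintype G] [Group H] [Fintype H] (π : G →* H)
    (hπ : Function.Surjective π) (hmin : ∀ L : Subgroup H, L.Normal → L ≠ ⊥ → commutator H ≤ L)
    (hne : commutator H ≠ ⊥) (hZ : Subgroup.center H = ⊥) {a b : ℕ} (ha : 1 < a) (hb : 1 < b)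
    (hab : a.Coprime b)
    (hcd : ∀ χ : IrrCharacter G, charDegree (χ : G → ℂ) = 1 ∨ charDegree (χ : G → ℂ) = a ∨
      charDegree (χ : G → ℂ) = b) : derivedSeries G 3 = ⊥ := by
  classical
  have hcdH : ∀ ζ : IrrCharacter H, dg ζ = 1 ∨ dg ζ = a ∨ dg ζ = b := by
    intro ζ
    have h1 := hcd ⟨fun g => (ζ : H → ℂ) (π g), isIrrCharacter_comp_surjective ζ.2 π hπ⟩
    simp only [charDegree_comp] at h1
    exact h1
  have hZ' : ∀ ζ : IrrCharacter H, dg ζ ≠ 1 → ∀ x : H, x ≠ 1 → ‖(ζ : H → ℂ) x‖ ≠ dg ζ := by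
    intro ζ hζ x hx
    have h1 : (ζ : H → ℂ) 1 ≠ 1 := by
      intro h
      apply hζ
      apply dg_eq
      rw [h]
      simp
    have h2 := norm_ne_of_center_bot hmin hZ ζ.2 h1 hx
    rw [← dg_cast, Complex.norm_natCast] at h2
    exact h2
  have hnthree : ∀ {χ ψ : IrrCharacter H}, dg χ = a → dg ψ = b → False := fun h1 h2 =>
    no_three_coprime ha hb hab hcdH hZ' h1 h2
  -- a nonlinear character of `H`
  obtain ⟨ξ, hξ1⟩ : ∃ ξ : IrrCharacter H, dg ξ ≠ 1 := by
    by_contra hcon
    push Not at hcon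
    apply hne
    apply commutator_eq_bot_of_comm (Cfsg.Agent.S0855.commutative_of_all_linear fun χ => ?_)
    rw [← dg_cast, hcon χ]
    simp
  -- the two degrees
  obtain ⟨f, g, hfξ, hfg, hcdG, hcdH2⟩ : ∃ f g : ℕ, dg ξ = f ∧ f.Coprime g ∧
      (∀ χ : IrrCharacter G, charDegree (χ : G → ℂ) = 1 ∨ charDegree (χ : G → ℂ) = f ∨
        charDegree (χ : G → ℂ) = g) ∧ ∀ ζ : IrrCharacter H, dg ζ = 1 ∨ dg ζ = f := by
    rcases hcdH ξ with h | h | h
    · exact absurd h hξ1
    · refine ⟨a, b, h, hab, hcd, fun ζ => ?_⟩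
      rcases hcdH ζ with h1 | h1 | h1
      · exact Or.inl h1
      · exact Or.inr h1
      · exact (hnthree h h1).elim
    · refine ⟨b, a, h, hab.symm, fun χ => ?_, fun ζ => ?_⟩
      · rcases hcd χ with h1 | h1 | h1
        · exact Or.inl h1
        · exact Or.inr (Or.inr h1)
        · exact Or.inr (Or.inl h1)
      · rcases hcdH ζ with h1 | h1 | h1
        · exact Or.inl h1
        · exact (hnthree h1 h).elim
        · exact Or.inr h1
  have hf1 : f ≠ 1 := hfξ ▸ hξ1
  have hV : ∀ x ∈ commutator H, ∀ y ∈ commutator H, x * y = y * x :=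
    Cfsg.Agent.S4458.result f hcdH2 ⟨ξ, hfξ⟩ hf1
  have hcyc := isCyclic_quotient hV hmin hZ hne
  have hcop := coprime_card_index hV hmin hZ hne
  set V := commutator H with hVdef
  haveI hVn : V.Normal := inferInstance
  haveI : Fintype V := Fintype.ofFinite _
  -- a nontrivial linear character of `V`
  obtain ⟨w₀, hw₀V, hw₀1⟩ : ∃ w₀ ∈ V, w₀ ≠ 1 := by
    obtain ⟨v, hv⟩ := Subgroup.ne_bot_iff_exists_ne_one.mp hne
    exact ⟨v, v.2, fun h => hv (Subtype.ext h)⟩
  obtain ⟨μ₀, hμ₀⟩ : ∃ μ₀ : V →* ℂˣ, μ₀ ⟨w₀, hw₀V⟩ ≠ 1 := by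
    letI iV : CommGroup V :=
      { (inferInstance : Group V) with
        mul_comm := fun x y => Subtype.ext (hV x x.2 y y.2) }
    have h1 : (⟨w₀, hw₀V⟩ : V) ≠ 1 := fun h => hw₀1 (congrArg Subtype.val h)
    exact CommGroup.exists_apply_ne_one_of_hasEnoughRootsOfUnity V ℂ h1
  have hμconj : ∀ {u : H}, u ∉ V → ∃ v : H, ∃ hv : v ∈ V,
      μ₀ ⟨u * v * u⁻¹, hVn.conj_mem v hv u⟩ ≠ μ₀ ⟨v, hv⟩ := by
    intro u hu
    have hfpf := fpf_of_not_mem hV hmin hZ hne hu
    obtain ⟨v, hv, hvw⟩ := exists_comm_eq hV hfpf hw₀V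
    refine ⟨v, hv, fun h => hμ₀ ?_⟩
    have h1 : (⟨w₀, hw₀V⟩ : V) = ⟨u * v * u⁻¹, hVn.conj_mem v hv u⟩ * (⟨v, hv⟩ : V)⁻¹ :=
      Subtype.ext hvw.symm
    rw [h1, map_mul, map_inv, h, mul_inv_cancel]
  -- the index of `V`
  have hVidx : V.index = f := by
    have hμirr := LinearChars.isIrr_of_hom μ₀
    have hT : ∀ g : H, g ∈ V ↔ ∀ n : V, ((μ₀ ⟨g * n * g⁻¹, hVn.conj_mem n n.2 g⟩ : ℂˣ) : ℂ) =
        ((μ₀ n : ℂˣ) : ℂ) := by
      intro g
      constructor
      · intro hg n
        congr 2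
        apply Subtype.ext
        show g * n * g⁻¹ = n
        rw [hV g hg n n.2]
        group
      · intro h
        by_contra hg
        obtain ⟨v, hv, hne'⟩ := hμconj hg
        exact hne' (Units.ext (h ⟨v, hv⟩))
    have hres : resT V V le_rfl (fun n : V => ((μ₀ n : ℂˣ) : ℂ)) = fun n : V => ((μ₀ n : ℂˣ) : ℂ) := rfl
    have hirr := isIrr_indFun V (fun n : V => ((μ₀ n : ℂˣ) : ℂ)) V le_rfl hμirr hT hμirr (by
      rw [hres, classInner_irr_self hμirr]
      exact one_ne_zero)
    have hdeg : dg (⟨_, hirr⟩ : IrrCharacter H) = V.index := by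
      apply dg_eq
      show indFun V _ 1 = _
      rw [indFun_one]
      simp
    rcases hcdH2 ⟨_, hirr⟩ with h | h
    · exfalso
      rw [hdeg, Subgroup.index_eq_one] at h
      apply hne
      apply commutator_eq_bot_of_comm
      intro x y
      exact hV x (h ▸ Subgroup.mem_top x) y (h ▸ Subgroup.mem_top y)
    · rw [← hdeg]
      exact h
  -- up in `G`
  let N : Subgroup G := V.comap π
  haveI hNn : N.Normal := hVn.comap π
  haveI : Fintype N := Fintype.ofFinite _
  have hNidx : N.index = f := by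
    rw [Subgroup.index_comap_of_surjective _ hπ, hVidx]
  have hcycN : IsCyclic (G ⧸ N) := by
    let φ : G →* H ⧸ V := (QuotientGroup.mk' V).comp π
    have hle : N ≤ φ.ker := by
      intro x hx
      rw [MonoidHom.mem_ker]
      exact (QuotientGroup.eq_one_iff _).2 hx
    let φ' : G ⧸ N →* H ⧸ V := QuotientGroup.lift _ φ hle
    refine isCyclic_of_injective φ' ?_
    rw [injective_iff_map_eq_one]
    intro y hy
    obtain ⟨x, rfl⟩ := QuotientGroup.mk_surjective y
    have h1 : φ x = 1 := hy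
    rw [QuotientGroup.eq_one_iff]
    exact (QuotientGroup.eq_one_iff (π x)).1 h1
  let e : N →* V :=
    { toFun := fun n => ⟨π (n : G), n.2⟩
      map_one' := Subtype.ext (map_one π)
      map_mul' := fun x y => Subtype.ext (map_mul π (x : G) (y : G)) }
  let μ : N →* ℂˣ := μ₀.comp e
  have hM : ∀ x, μ x ^ Nat.card V = 1 := by
    intro x
    show μ₀ (e x) ^ Nat.card V = 1
    rw [← map_pow, pow_card_eq_one', map_one]
  have hμ : ∀ u : G, u ∉ N → ∃ v : N, μ ⟨u * v * u⁻¹, hNn.conj_mem v v.2 u⟩ ≠ μ v := by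
    intro u hu
    obtain ⟨v, hv, hne'⟩ := hμconj (u := π u) hu
    obtain ⟨x, rfl⟩ := hπ v
    refine ⟨⟨x, hv⟩, ?_⟩
    show μ₀ (e _) ≠ μ₀ (e _)
    convert hne' using 2
    apply Subtype.ext
    show π (u * x * u⁻¹) = _
    simp
    rfl
  have hcdN := degree_of_frob_data N hcycN μ hM (by rw [hNidx, ← hVidx]; exact hcop) hμ
    (by rw [hNidx]; exact hfg) (fun χ => by rw [hNidx]; exact hcdG χ)
  have hN2 := derived_two hcdN
  have hGN : derivedSeries G 1 ≤ (derivedSeries N 0).map N.subtype := by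
    rw [derivedSeries_zero, ← MonoidHom.range_eq_map, Subgroup.range_subtype]
    intro x hx
    have h1 := map_derivedSeries_le_derivedSeries π 1 ⟨x, hx, rfl⟩
    rw [derivedSeries_one] at h1
    exact h1
  have h3 := derivedSeries_le_map N hGN 2
  rw [eq_bot_iff]
  refine h3.trans ?_
  rw [show 0 + 2 = 2 from rfl, hN2]
  simp

/-- **The coprime case.** -/
theorem coprime_case {G : Type u} [Group G] [Fintype G] {a b : ℕ} (ha : 1 < a) (hb : 1 < b)
    (hab : a.Coprime b)
    (hcd : ∀ χ : IrrCharacter G, charDegree (χ : G → ℂ) = 1 ∨ charDegree (χ : G → ℂ) = a ∨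
      charDegree (χ : G → ℂ) = b)
    (hχa : ∃ χ : IrrCharacter G, charDegree (χ : G → ℂ) = a)
    (hχb : ∃ χ : IrrCharacter G, charDegree (χ : G → ℂ) = b) : derivedSeries G 3 = ⊥ := by
  classical
  have hnab : ¬ commutator G ≤ ⊥ := by
    intro h
    obtain ⟨χ, hχ⟩ := hχa
    have hc : ∀ x y : G, x * y = y * x := by
      intro x y
      have h1 := h (comm_mem x y)
      rw [Subgroup.mem_bot] at h1
      have h2 : x * y * x⁻¹ = y := mul_inv_eq_one.mp h1
      calc x * y = x * y * x⁻¹ * x := by group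
        _ = y * x := by rw [h2]
    -- an irreducible character of an abelian group is linear
    have h1 := Cfsg.Agent.Lib.Char.FrobPair.degree_eq_one_of_comm hc χ.2
    have h2 : charDegree (χ : G → ℂ) = 1 :=
      Values.IsCharacter.charDegree_eq (Values.IsIrrCharacter.isCharacter χ.2) (by rw [h1]; simp)
    omega
  let S := {K : Subgroup G // K.Normal ∧ ¬ commutator G ≤ K}
  haveI : Nonempty S := ⟨⟨⊥, Subgroup.normal_bot, hnab⟩⟩
  obtain ⟨⟨K, hKn, hKc⟩, hmax⟩ := Finite.exists_max (fun K : S => Nat.card K.1)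
  haveI := hKn
  let H := G ⧸ K
  letI : Fintype H := Fintype.ofFinite _
  let π : G →* H := QuotientGroup.mk' K
  have hπ : Function.Surjective π := QuotientGroup.mk'_surjective K
  have hker : π.ker = K := QuotientGroup.ker_mk' K
  have hmin : ∀ L : Subgroup H, L.Normal → L ≠ ⊥ → commutator H ≤ L := by
    intro L hL hLb
    have hKL : K ≤ L.comap π := by
      intro x hx
      show π x ∈ L
      have : π x = 1 := by
        rw [← MonoidHom.mem_ker, hker]
        exact hx
      rw [this]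
      exact L.one_mem
    have hcomm : commutator G ≤ L.comap π := by
      by_contra hc
      have h1 := hmax ⟨L.comap π, hL.comap π, hc⟩
      have h2 : K = L.comap π := Subgroup.eq_of_le_of_card_ge hKL h1
      apply hLb
      rw [eq_bot_iff]
      intro y hy
      obtain ⟨x, rfl⟩ := hπ y
      have h3 : x ∈ K := by rw [h2]; exact hy
      have h4 : x ∈ π.ker := by rw [hker]; exact h3
      exact h4
    have h1 := map_derivedSeries_eq hπ 1
    rw [derivedSeries_one, derivedSeries_one] at h1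
    rw [← h1]
    rintro _ ⟨x, hx, rfl⟩
    exact hcomm hx
  have hne : commutator H ≠ ⊥ := by
    intro h
    have h1 := map_derivedSeries_eq hπ 1
    rw [derivedSeries_one, derivedSeries_one, h, Subgroup.map_eq_bot_iff, hker] at h1
    exact hKc h1
  by_cases hZ : Subgroup.center H = ⊥
  · exact centerless_case π hπ hmin hne hZ ha hb hab hcd
  · exact (central_case π hπ hmin hne hZ ha hb hab hcd hχa hχb).elim

end Cfsg.Agent.Lib.Char.ThreeDeg
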