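import Mathlib
import Cfsg.Agent.Lib.Char.ThreeDeg.Coprime

/-!
# The top chief factor of the commutator subgroup

`G` is a nonabelian solvable group and `G' / M` a chief factor of `G` with `G'' ≤ M`.
In `H = G / M` the commutator subgroup `V` is a minimal normal elementary abelian `p`-subgroup.

* `exists_chief_quot`: the existence of `M`.
* `exists_prime_exp`: the prime `p`.
* `central_data`, `central_top`: the case that `V` is central.
* `nc_data`, `nc_key`: the case that `V` is not central; the group `G / A` is cyclic.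
-/

set_option autoImplicit false
set_option linter.style.haveILetI false

namespace Cfsg.Agent.Lib.Char.ThreeDeg

open Cfsg Cfsg.Agent.Lib.Char Cfsg.Agent.Lib.Char.Basic Cfsg.Agent.Lib.Char.Ortho
  Cfsg.Agent.Lib.Char.Induced Cfsg.Agent.Lib.Char.Monomial Cfsg.Agent.Lib.Char.CliffordCorr
  Cfsg.Agent.Lib.Char.PDerived Cfsg.Agent.Lib.Char.Clifford Cfsg.Agent.Lib.Char.GoingDown
  Cfsg.Agent.Lib.Char.Gallagher Cfsg.Agent.Lib.Char.AbelianQuot Cfsg.Agent.Lib.Char.TwistDet
  Cfsg.Agent.Lib.Char.PrimeIndex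
open scoped ComplexConjugate

universe u

/-- The existence of the chief factor. -/
theorem exists_chief_quot {G : Type u} [Group G] [Finite G] [Group.IsSolvable G]
    (hnab : commutator G ≠ ⊥) : ∃ M : Subgroup G, ∃ _ : M.Normal, M ≤ commutator G ∧
      commutator (G ⧸ M) ≠ ⊥ ∧ (∀ a ∈ commutator (G ⧸ M), ∀ b ∈ commutator (G ⧸ M), a * b = b * a) ∧
      ∀ L : Subgroup (G ⧸ M), L.Normal → L ≤ commutator (G ⧸ M) → L = ⊥ ∨ L = commutator (G ⧸ M) := by
  classical
  haveI hnt : Nontrivial (commutator G) := (Subgroup.nontrivial_iff_ne_bot _).2 hnab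
  have h2 : derivedSeries G 2 ≠ commutator G := by
    intro h
    have h3 := Subgroup.map_subtype_commutator (commutator G)
    have h4 : ⁅commutator G, commutator G⁆ = commutator G := by
      have h' := h
      rw [derivedSeries_succ, derivedSeries_one] at h'
      exact h'
    rw [h4] at h3
    have h5 : commutator (commutator G) = ⊤ := by
      apply Subgroup.map_injective (commutator G).subtype_injective
      rw [h3, ← MonoidHom.range_eq_map, Subgroup.range_subtype]
    exact (Group.IsSolvable.commutator_lt_top_of_nontrivial (commutator G)).ne h5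
  have hle2 : derivedSeries G 2 ≤ commutator G := by
    have := derivedSeries_antitone G (show 1 ≤ 2 by norm_num)
    rwa [derivedSeries_one] at this
  let S := {L : Subgroup G // L.Normal ∧ derivedSeries G 2 ≤ L ∧ L ≤ commutator G ∧ L ≠ commutator G}
  haveI : Nonempty S := ⟨⟨derivedSeries G 2, derivedSeries_normal G 2, le_rfl, hle2, h2⟩⟩
  obtain ⟨⟨M, hMn, hM2, hMc, hMne⟩, hmax⟩ := Finite.exists_max (fun L : S => Nat.card L.1)
  haveI := hMn
  let π : G →* G ⧸ M := QuotientGroup.mk' M
  have hπ : Function.Surjective π := QuotientGroup.mk'_surjective M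
  have hker : π.ker = M := QuotientGroup.ker_mk' M
  have hc : (commutator G).map π = commutator (G ⧸ M) := by
    have h1 := map_derivedSeries_eq hπ 1
    rwa [derivedSeries_one, derivedSeries_one] at h1
  refine ⟨M, hMn, hMc, ?_, ?_, ?_⟩
  · intro h
    rw [← hc, Subgroup.map_eq_bot_iff, hker] at h
    exact hMne (le_antisymm hMc h)
  · rw [← hc]
    rintro _ ⟨x, hx, rfl⟩ _ ⟨y, hy, rfl⟩
    have h1 : x * y * x⁻¹ * y⁻¹ ∈ derivedSeries G 2 := by
      rw [derivedSeries_succ, derivedSeries_one]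
      exact Subgroup.commutator_mem_commutator hx hy
    have h3 : π (x * y * x⁻¹ * y⁻¹) = 1 := by
      rw [← MonoidHom.mem_ker, hker]
      exact hM2 h1
    simp only [map_mul, map_inv] at h3
    have h4 : π x * π y * (π x)⁻¹ = π y := mul_inv_eq_one.mp h3
    calc π x * π y = π x * π y * (π x)⁻¹ * π x := by group
      _ = π y * π x := by rw [h4]
  · intro L hL hLV
    have hMcomap : M ≤ L.comap π := by
      intro x hx
      show π x ∈ L
      have : π x = 1 := by
        rw [← MonoidHom.mem_ker, hker]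
        exact hx
      rw [this]
      exact L.one_mem
    have hcomapc : L.comap π ≤ commutator G := by
      intro x hx
      have h1 : π x ∈ commutator (G ⧸ M) := hLV hx
      rw [← hc] at h1
      obtain ⟨g, hg, hgx⟩ := h1
      have h3 : g⁻¹ * x ∈ M := by
        rw [← hker, MonoidHom.mem_ker, map_mul, map_inv, hgx, inv_mul_cancel]
      have h4 : x = g * (g⁻¹ * x) := by group
      rw [h4]
      exact (commutator G).mul_mem hg (hMc h3)
    by_cases he : L.comap π = commutator G
    · right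
      apply le_antisymm hLV
      rw [← hc]
      rintro _ ⟨x, hx, rfl⟩
      rw [← he] at hx
      exact hx
    · left
      have h1 := hmax ⟨L.comap π, hL.comap π, hM2.trans hMcomap, hcomapc, he⟩
      have h2' : M = L.comap π := Subgroup.eq_of_le_of_card_ge hMcomap h1
      rw [eq_bot_iff]
      intro y hy
      obtain ⟨x, rfl⟩ := hπ y
      have h3 : x ∈ M := by rw [h2']; exact hy
      have h4 : x ∈ π.ker := by rw [hker]; exact h3
      exact h4

section H

variable {H : Type u} [Group H]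

/-- `V` has prime exponent. -/
theorem exists_prime_exp [Finite H] (hne : commutator H ≠ ⊥)
    (hV : ∀ a ∈ commutator H, ∀ b ∈ commutator H, a * b = b * a)
    (hmin : ∀ L : Subgroup H, L.Normal → L ≤ commutator H → L = ⊥ ∨ L = commutator H) :
    ∃ p : ℕ, p.Prime ∧ ∀ v ∈ commutator H, v ^ p = 1 := by
  classical
  haveI hnt : Nontrivial (commutator H) := (Subgroup.nontrivial_iff_ne_bot _).2 hne
  obtain ⟨p, hp, hpd⟩ := Nat.exists_prime_and_dvd (Finite.one_lt_card (α := commutator H)).ne'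
  haveI : Fact p.Prime := ⟨hp⟩
  obtain ⟨y, hy⟩ := exists_prime_orderOf_dvd_card' p hpd
  refine ⟨p, hp, ?_⟩
  let L : Subgroup H :=
    { carrier := {x | ∃ v ∈ commutator H, x = v ^ p}
      one_mem' := ⟨1, one_mem _, by simp⟩
      mul_mem' := by
        rintro _ _ ⟨a, ha, rfl⟩ ⟨b, hb, rfl⟩
        refine ⟨a * b, mul_mem ha hb, ?_⟩
        have : Commute a b := hV a ha b hb
        rw [this.mul_pow]
      inv_mem' := by
        rintro _ ⟨a, ha, rfl⟩
        exact ⟨a⁻¹, inv_mem ha, by simp⟩ }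
  have hLn : L.Normal := by
    refine ⟨?_⟩
    rintro _ ⟨a, ha, rfl⟩ g
    exact ⟨g * a * g⁻¹, (inferInstance : (commutator H).Normal).conj_mem a ha g, by
      rw [conj_pow]⟩
  have hLle : L ≤ commutator H := by
    rintro _ ⟨a, ha, rfl⟩
    exact pow_mem ha p
  rcases hmin L hLn hLle with h | h
  · intro v hv
    have : v ^ p ∈ L := ⟨v, hv, rfl⟩
    rw [h, Subgroup.mem_bot] at this
    exact this
  · exfalso
    -- the power map is surjective, so injective
    let f : commutator H → commutator H := fun v => ⟨(v : H) ^ p, pow_mem v.2 p⟩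
    have hs : Function.Surjective f := by
      intro w
      have h1 : (w : H) ∈ L := by rw [h]; exact w.2
      obtain ⟨v, hv, hvw⟩ := h1
      exact ⟨⟨v, hv⟩, Subtype.ext hvw.symm⟩
    have hi := Finite.injective_iff_surjective.mpr hs
    have h1 : f y = f 1 := by
      apply Subtype.ext
      show ((y : H)) ^ p = ((1 : commutator H) : H) ^ p
      have h2 : y ^ p = 1 := by
        rw [← hy]
        exact pow_orderOf_eq_one y
      have h3 := congrArg Subtype.val h2
      simpa using h3
    have h2 := hi h1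
    rw [h2, orderOf_one] at hy
    exact hp.one_lt.ne hy

/-- The central case, in the quotient. -/
theorem central_data [Fintype H] (hne : commutator H ≠ ⊥)
    (hmin : ∀ L : Subgroup H, L.Normal → L ≤ commutator H → L = ⊥ ∨ L = commutator H)
    (hcen : commutator H ≤ Subgroup.center H) {p : ℕ} (hp : p.Prime)
    (hexp : ∀ v ∈ commutator H, v ^ p = 1) :
    ∃ (ξ : IrrCharacter H) (f : ℕ), (ξ : H → ℂ) 1 = f ∧ p ∣ f ∧ (∃ k, (Subgroup.center H).index = p ^ k) ∧
      (Subgroup.center H).index = f ^ 2 ∧ ∀ y, y ∉ Subgroup.center H → (ξ : H → ℂ) y = 0 := by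
  classical
  haveI : Fact p.Prime := ⟨hp⟩
  obtain ⟨v₀, hv₀⟩ := Subgroup.ne_bot_iff_exists_ne_one.mp hne
  have hv₀1 : (v₀ : H) ≠ 1 := fun h => hv₀ (Subtype.ext h)
  -- a character nontrivial on `V`
  obtain ⟨ξ, hξ⟩ : ∃ ξ : IrrCharacter H, (ξ : H → ℂ) v₀ ≠ (ξ : H → ℂ) 1 := by
    by_contra hcon
    push Not at hcon
    have h1 : IsConj (v₀ : H) 1 := CompleteCor.isConj_of_forall_irr hcon
    exact hv₀1 (isConj_one_right.1 h1.symm)
  -- faithful on `V`
  have hfaith : ∀ z ∈ commutator H, (ξ : H → ℂ) z = (ξ : H → ℂ) 1 → z = 1 := by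
    intro z hz hzk
    obtain ⟨n, ρ, hirr, hρ⟩ := ξ.2
    rw [← hρ] at hξ hzk
    have hker : ∀ x, ρ.character x = ρ.character 1 ↔ x ∈ MonoidHom.ker ρ := by
      intro x
      constructor
      · intro h
        have h2 : ρ x = LinearMap.id := by
          apply (Values.character_eq_finrank_iff ρ x).1
          rw [h, Representation.char_one]
        exact h2
      · intro h
        have h2 : ρ x = 1 := h
        have h3 : ρ x = ρ 1 := by rw [h2, map_one]
        show LinearMap.trace ℂ (Fin n → ℂ) (ρ x) = LinearMap.trace ℂ (Fin n → ℂ) (ρ 1)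
        rw [h3]
    have hn : (MonoidHom.ker ρ ⊓ commutator H).Normal :=
      Subgroup.normal_inf_normal _ _
    rcases hmin _ hn inf_le_right with h | h
    · have : z ∈ MonoidHom.ker ρ ⊓ commutator H := ⟨(hker z).1 hzk, hz⟩
      rw [h] at this
      exact this
    · exfalso
      apply hξ
      have h1 : (v₀ : H) ∈ MonoidHom.ker ρ ⊓ commutator H := by
        rw [h]
        exact v₀.2
      exact (hker _).2 h1.1
  have hvan : ∀ y, y ∉ Subgroup.center H → (ξ : H → ℂ) y = 0 := by
    intro y hy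
    rw [Subgroup.mem_center_iff] at hy
    push Not at hy
    obtain ⟨w, hw⟩ := hy
    have hz : w * y * w⁻¹ * y⁻¹ ∈ Subgroup.center H := hcen (comm_mem w y)
    have hz1 : w * y * w⁻¹ * y⁻¹ ≠ 1 := by
      intro h
      apply hw
      have h2 : w * y * w⁻¹ = y := by
        rw [mul_inv_eq_one] at h
        exact h
      calc w * y = w * y * w⁻¹ * w := by group
        _ = y * w := by rw [h2]
    refine eq_zero_of_conj_eq_central_mul ξ.2 hz (y := w) (x := y) (by group) ?_
    intro h
    exact hz1 (hfaith _ (comm_mem w y) h)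
  set f := charDegree (ξ : H → ℂ) with hf
  have hξf : (ξ : H → ℂ) 1 = f := (Values.IsCharacter.charDegree_cast
    (Values.IsIrrCharacter.isCharacter ξ.2)).symm
  have hsq := deg_sq_mul_card_center_eq ξ.2 hvan
  have hnorm : ‖(ξ : H → ℂ) 1‖ = f := by
    rw [hξf, Complex.norm_natCast]
  rw [hnorm] at hsq
  have hsq' : f ^ 2 * Nat.card (Subgroup.center H) = Nat.card H := by exact_mod_cast hsq
  have hidx : (Subgroup.center H).index = f ^ 2 := by
    have h1 := (Subgroup.center H).card_mul_index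
    rw [← hsq', mul_comm] at h1
    exact Nat.eq_of_mul_eq_mul_right Nat.card_pos h1
  -- the quotient has exponent `p`
  have hP : IsPGroup p (H ⧸ Subgroup.center H) := by
    intro x
    obtain ⟨y, rfl⟩ := QuotientGroup.mk_surjective x
    refine ⟨1, ?_⟩
    rw [pow_one, ← QuotientGroup.mk_pow, QuotientGroup.eq_one_iff, Subgroup.mem_center_iff]
    intro w
    set z := w * y * w⁻¹ * y⁻¹ with hzdef
    have hzc : z ∈ Subgroup.center H := hcen (comm_mem w y)
    have hzV : z ∈ commutator H := comm_mem w y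
    have h1 : w * y * w⁻¹ = z * y := by
      rw [hzdef]
      group
    have hcomm : Commute z y := (Subgroup.mem_center_iff.mp hzc y).symm
    have h2 : w * y ^ p * w⁻¹ = y ^ p := by
      rw [← conj_pow, h1, hcomm.mul_pow, hexp z hzV, one_mul]
    calc w * y ^ p = w * y ^ p * w⁻¹ * w := by group
      _ = y ^ p * w := by rw [h2]
  obtain ⟨k, hk⟩ := IsPGroup.iff_card.1 hP
  have hk' : (Subgroup.center H).index = p ^ k := hk
  refine ⟨ξ, f, hξf, ?_, ⟨k, hk'⟩, hidx, hvan⟩
  -- `p ∣ f`
  have hk0 : k ≠ 0 := by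
    rintro rfl
    rw [pow_zero, Subgroup.index_eq_one] at hk'
    apply hne
    apply commutator_eq_bot_of_comm
    intro x y
    have hx : x ∈ Subgroup.center H := by rw [hk']; trivial
    exact (Subgroup.mem_center_iff.mp hx y).symm
  have h1 : p ∣ f ^ 2 := by
    rw [← hidx, hk']
    exact dvd_pow_self p hk0
  exact hp.dvd_of_dvd_pow h1

section NC

variable (hV : ∀ a ∈ commutator H, ∀ b ∈ commutator H, a * b = b * a)
  (hmin : ∀ L : Subgroup H, L.Normal → L ≤ commutator H → L = ⊥ ∨ L = commutator H)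

include hV hmin

/-- An element outside the centralizer of `V` acts fixed point freely. -/
theorem fpf_of_not_centralizing {u : H} (hu : ∃ w ∈ commutator H, u * w * u⁻¹ ≠ w) :
    ∀ v ∈ commutator H, u * v * u⁻¹ = v → v = 1 := by
  intro v hv huv
  have hn := fixSub_normal u (N := commutator H) (fun x hx d hd => hV d hd x hx)
  have hle : fixSub u (commutator H) ≤ commutator H := fun x hx => hx.1
  rcases hmin _ hn hle with h | h
  · have : v ∈ fixSub u (commutator H) := ⟨hv, huv⟩
    rw [h, Subgroup.mem_bot] at this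
    exact this
  · exfalso
    obtain ⟨w, hw, hne⟩ := hu
    have : w ∈ fixSub u (commutator H) := by rw [h]; exact hw
    exact hne this.2

/-- The data of the noncentral case. -/
theorem nc_data [Finite H] (hne : commutator H ≠ ⊥) (hnc : ¬ commutator H ≤ Subgroup.center H) {p : ℕ}
    (hp : p.Prime) (hexp : ∀ v ∈ commutator H, v ^ p = 1) :
    ∃ (C : Subgroup H) (hC : C.Normal) (μ : C →* ℂˣ), commutator H ≤ C ∧ IsCyclic (H ⧸ C) ∧
      ¬ p ∣ C.index ∧ C ≠ ⊤ ∧
      (∀ u, u ∉ C → ∃ v : C, μ ⟨u * v * u⁻¹, hC.conj_mem v v.2 u⟩ ≠ μ v) ∧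
      ∀ (u : H) (a : C), (μ ⟨u * a * u⁻¹, hC.conj_mem a a.2 u⟩ * (μ a)⁻¹) ^ p = 1 := by
  classical
  haveI : Fact p.Prime := ⟨hp⟩
  let C : Subgroup H := Subgroup.centralizer (commutator H : Set H)
  have hCmem : ∀ x, x ∈ C ↔ ∀ d ∈ commutator H, d * x = x * d := fun x => Subgroup.mem_centralizer_iff
  have hCn : C.Normal := inferInstance
  have hVC : commutator H ≤ C := fun x hx => (hCmem x).2 fun d hd => hV d hd x hx
  have hnotC : ∀ {u : H}, u ∉ C → ∃ w ∈ commutator H, u * w * u⁻¹ ≠ w := by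
    intro u hu
    by_contra hcon
    push Not at hcon
    apply hu
    rw [hCmem]
    intro d hd
    have h1 := hcon d hd
    calc d * u = (u * d * u⁻¹) * u := by rw [h1]
      _ = u * d := by group
  have hfpf : ∀ {u : H}, u ∉ C → ∀ v ∈ commutator H, u * v * u⁻¹ = v → v = 1 := fun hu =>
    fpf_of_not_centralizing hV hmin (hnotC hu)
  -- `C` is not everything
  obtain ⟨h, hhC⟩ : ∃ h, h ∉ C := by
    by_contra hcon
    push Not at hcon
    apply hnc
    intro v hv
    rw [Subgroup.mem_center_iff]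
    intro g
    exact (((hCmem g).1 (hcon g)) v hv).symm
  have hCtop : C ≠ ⊤ := fun h' => hhC (h' ▸ Subgroup.mem_top h)
  -- `C` is abelian
  have hCab : ∀ a ∈ C, ∀ b ∈ C, a * b = b * a := by
    intro c₁ hc₁ c₂ hc₂
    set z := c₁ * c₂ * c₁⁻¹ * c₂⁻¹ with hz
    have hzV : z ∈ commutator H := comm_mem c₁ c₂
    set v₁ := h * c₁ * h⁻¹ * c₁⁻¹ with hv₁
    set v₂ := h * c₂ * h⁻¹ * c₂⁻¹ with hv₂
    have hv₁V : v₁ ∈ commutator H := comm_mem h c₁
    have hv₂V : v₂ ∈ commutator H := comm_mem h c₂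
    have hx₁ : h * c₁ * h⁻¹ = v₁ * c₁ := by rw [hv₁]; group
    have hx₂ : h * c₂ * h⁻¹ = v₂ * c₂ := by rw [hv₂]; group
    have hcv : c₁ * v₂ = v₂ * c₁ := ((hCmem c₁).1 hc₁ v₂ hv₂V).symm
    have hcv' : c₂ * v₁ = v₁ * c₂ := ((hCmem c₂).1 hc₂ v₁ hv₁V).symm
    have hvv : v₂ * v₁ = v₁ * v₂ := hV _ hv₂V _ hv₁V
    have hfix : h * z * h⁻¹ = z := by
      have h1 : h * z * h⁻¹ = (h * c₁ * h⁻¹) * (h * c₂ * h⁻¹) * (h * c₁ * h⁻¹)⁻¹ * (h * c₂ * h⁻¹)⁻¹ := by
        rw [hz]; group
      rw [h1, hx₁, hx₂]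
      have h2 : v₁ * c₁ * (v₂ * c₂) = (v₁ * v₂) * (c₁ * c₂) := by
        calc v₁ * c₁ * (v₂ * c₂) = v₁ * (c₁ * v₂) * c₂ := by group
          _ = v₁ * (v₂ * c₁) * c₂ := by rw [hcv]
          _ = _ := by group
      have h3 : v₂ * c₂ * (v₁ * c₁) = (v₁ * v₂) * (c₂ * c₁) := by
        calc v₂ * c₂ * (v₁ * c₁) = v₂ * (c₂ * v₁) * c₁ := by group
          _ = v₂ * (v₁ * c₂) * c₁ := by rw [hcv']
          _ = (v₂ * v₁) * (c₂ * c₁) := by group
          _ = _ := by rw [hvv]
      have h4 : v₁ * c₁ * (v₂ * c₂) * (v₁ * c₁)⁻¹ * (v₂ * c₂)⁻¹ =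
          (v₁ * c₁ * (v₂ * c₂)) * (v₂ * c₂ * (v₁ * c₁))⁻¹ := by group
      rw [h4, h2, h3]
      have h5 : (v₁ * v₂) * (c₁ * c₂) * ((v₁ * v₂) * (c₂ * c₁))⁻¹ = (v₁ * v₂) * z * (v₁ * v₂)⁻¹ := by
        rw [hz]; group
      rw [h5, hV _ (mul_mem hv₁V hv₂V) z hzV]
      group
    have hz1 := hfpf hhC z hzV hfix
    rw [hz] at hz1
    have h1 : c₁ * c₂ * c₁⁻¹ = c₂ := mul_inv_eq_one.mp hz1
    calc c₁ * c₂ = c₁ * c₂ * c₁⁻¹ * c₁ := by group
      _ = c₂ * c₁ := by rw [h1]
  -- a nontrivial element of `V`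
  obtain ⟨w₀', hw₀'⟩ := Subgroup.ne_bot_iff_exists_ne_one.mp hne
  set w₀ : H := (w₀' : H) with hw₀def
  have hw₀V : w₀ ∈ commutator H := w₀'.2
  have hw₀1 : w₀ ≠ 1 := fun h' => hw₀' (Subtype.ext h')
  -- the linear character
  obtain ⟨μ, hμ⟩ : ∃ μ : C →* ℂˣ, μ ⟨w₀, hVC hw₀V⟩ ≠ 1 := by
    letI iC : CommGroup C :=
      { (inferInstance : Group C) with
        mul_comm := fun x y => Subtype.ext (hCab x x.2 y y.2) }
    have h1 : (⟨w₀, hVC hw₀V⟩ : C) ≠ 1 := fun h' => hw₀1 (congrArg Subtype.val h')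
    exact CommGroup.exists_apply_ne_one_of_hasEnoughRootsOfUnity C ℂ h1
  refine ⟨C, hCn, μ, hVC, ?_, ?_, hCtop, ?_, ?_⟩
  · -- cyclic
    letI iV : CommGroup (commutator H) :=
      { (inferInstance : Group (commutator H)) with
        mul_comm := fun a b => Subtype.ext (hV a a.2 b b.2) }
    haveI hntV : Nontrivial (commutator H) := (Subgroup.nontrivial_iff_ne_bot _).2 hne
    have hle : C ≤ (MulAut.conjNormal (G := H) (H := commutator H)).ker := by
      intro d hd
      rw [MonoidHom.mem_ker]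
      ext v
      show d * (v : H) * d⁻¹ = v
      rw [← (hCmem d).1 hd v v.2]
      group
    let c : H ⧸ C →* MulAut (commutator H) := QuotientGroup.lift _ MulAut.conjNormal hle
    have hcv : ∀ (h : H) (v : commutator H), ((c (h : H ⧸ C) v : commutator H) : H) =
        h * v * h⁻¹ := fun h v => rfl
    refine isCyclic_of_irreducible c ?_ ?_ ?_
    · rw [injective_iff_map_eq_one]
      intro a ha
      obtain ⟨g, rfl⟩ := QuotientGroup.mk_surjective a
      rw [QuotientGroup.eq_one_iff]
      by_contra hg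
      obtain ⟨w, hw, hne'⟩ := hnotC hg
      apply hne'
      have h1 := hcv g ⟨w, hw⟩
      rw [ha] at h1
      exact h1.symm
    · intro a b
      obtain ⟨x, rfl⟩ := QuotientGroup.mk_surjective a
      obtain ⟨y, rfl⟩ := QuotientGroup.mk_surjective b
      rw [← QuotientGroup.mk_mul, ← QuotientGroup.mk_mul, QuotientGroup.eq]
      have : (x * y)⁻¹ * (y * x) = y⁻¹ * x⁻¹ * y⁻¹⁻¹ * x⁻¹⁻¹ := by group
      rw [this]
      exact hVC (comm_mem _ _)
    · intro L hL
      have hn : (L.map (commutator H).subtype).Normal := by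
        refine ⟨?_⟩
        rintro _ ⟨v, hv, rfl⟩ g
        exact ⟨_, hL (g : H ⧸ C) v hv, rfl⟩
      have hle' : L.map (commutator H).subtype ≤ commutator H := by
        rintro _ ⟨v, -, rfl⟩
        exact v.2
      rcases hmin _ hn hle' with hb | h1
      · left
        rw [Subgroup.map_eq_bot_iff_of_injective _ (commutator H).subtype_injective] at hb
        exact hb
      · right
        rw [eq_top_iff]
        intro v _
        have h2 : (v : H) ∈ L.map (commutator H).subtype := by rw [h1]; exact v.2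
        obtain ⟨w, hw, hwv⟩ := h2
        have : w = v := Subtype.ext hwv
        exact this ▸ hw
  · -- coprimality
    intro hpd
    let P : Sylow p H := default
    have hPV : ∃ u ∈ (P : Subgroup H), u ∉ C := by
      by_contra hcon
      push Not at hcon
      have h1 : C.index ∣ (P : Subgroup H).index := Subgroup.index_dvd_of_le hcon
      exact P.not_dvd_index (hpd.trans h1)
    obtain ⟨u, huP, huC⟩ := hPV
    letI : MulAction (P : Subgroup H) (commutator H) :=
      MulAction.compHom (commutator H) ((MulAut.conjNormal (H := commutator H)).comp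
        (P : Subgroup H).subtype)
    have hsm : ∀ (x : (P : Subgroup H)) (v : commutator H),
        ((x • v : commutator H) : H) = (x : H) * v * (x : H)⁻¹ := fun x v => rfl
    have h1fix : (1 : commutator H) ∈ MulAction.fixedPoints (P : Subgroup H) (commutator H) := by
      intro x
      apply Subtype.ext
      rw [hsm]
      simp
    have hcardV : p ∣ Nat.card (commutator H) := by
      have h1 : (⟨w₀, hw₀V⟩ : commutator H) ^ p = 1 := Subtype.ext (hexp w₀ hw₀V)
      have h2 : orderOf (⟨w₀, hw₀V⟩ : commutator H) = p := by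
        apply orderOf_eq_prime h1
        exact fun h' => hw₀1 (congrArg Subtype.val h')
      rw [← h2]
      exact orderOf_dvd_natCard _
    obtain ⟨z, hz, hz1⟩ := P.isPGroup'.exists_fixed_point_of_prime_dvd_card_of_fixed_point
      (commutator H) hcardV h1fix
    have hfz := congrArg Subtype.val (hz ⟨u, huP⟩)
    rw [hsm] at hfz
    have := hfpf huC z z.2 hfz
    exact hz1 (Subtype.ext (this ▸ rfl))
  · -- the character moves
    intro u hu
    have hfp := hfpf hu
    obtain ⟨v, hv, hvw⟩ := exists_comm_eq hV hfp hw₀V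
    refine ⟨⟨v, hVC hv⟩, fun h' => hμ ?_⟩
    have h1 : (⟨w₀, hVC hw₀V⟩ : C) = ⟨u * v * u⁻¹, hCn.conj_mem v (hVC hv) u⟩ * (⟨v, hVC hv⟩ : C)⁻¹ :=
      Subtype.ext hvw.symm
    rw [h1, map_mul, map_inv, h', mul_inv_cancel]
  · -- the exponent
    intro u a
    have h1 : (⟨u * a * u⁻¹, hCn.conj_mem a a.2 u⟩ : C) * a⁻¹ =
        ⟨u * a * u⁻¹ * (a : H)⁻¹, hVC (comm_mem u a)⟩ := rfl
    rw [← map_inv, ← map_mul, h1, ← map_pow]
    have h2 : (⟨u * a * u⁻¹ * (a : H)⁻¹, hVC (comm_mem u a)⟩ : C) ^ p = 1 :=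
      Subtype.ext (hexp _ (comm_mem u a))
    rw [h2, map_one]

end NC

end H

section G

variable {G : Type u} [Group G]

/-- Constituents over a subgroup with an extension. -/
theorem degree_eq_of_ext [Fintype G] (N : Subgroup G) [N.Normal] [Fintype N]
    (hab : ∀ x y : G, x * y * x⁻¹ * y⁻¹ ∈ N) {φ : N → ℂ} {η : G → ℂ} (hη : IsIrrCharacter G η)
    (hext : ∀ n : N, η n = φ n) {χ : G → ℂ} (hχ : IsIrrCharacter G χ)
    (h : classInner (fun a : N => χ a) φ ≠ 0) : χ 1 = φ 1 := by
  classical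
  have hχc := isClassFunction_of_isCharacter (isCharacter_of_isIrrCharacter hχ)
  have hfrob : classInner (indFun N φ) χ ≠ 0 := by
    rw [frobenius_reciprocity N φ χ hχc]
    intro h0
    apply h
    rw [← classInner_conj_symm, h0, map_zero]
  obtain ⟨Ξ, hΞ, hdec, -⟩ := exists_indFun_one_eq_sum N hab
  have hηc := isClassFunction_of_isCharacter (isCharacter_of_isIrrCharacter hη)
  have h1 : indFun N φ = indFun N (fun _ => (1 : ℂ)) * η := by
    rw [indFun_mul_res N _ hηc]
    congr 1
    funext n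
    simp [hext]
  rw [h1, hdec, Finset.sum_mul, classInner_sum_left] at hfrob
  obtain ⟨ξ, hξ, hne⟩ := Finset.exists_ne_zero_of_sum_ne_zero hfrob
  have hlin := linear_of_over_one N hab ξ.2 ((hΞ ξ).1 hξ)
  have hirr : IsIrrCharacter G ((ξ : G → ℂ) * η) := by
    rw [mul_comm]
    exact isIrr_mul_of_norm_one hη (isCharacter_of_isIrrCharacter ξ.2) hlin.2.2
  have heq : (ξ : G → ℂ) * η = χ := by
    by_contra hc
    exact hne (classInner_irr_of_ne hirr hχ hc)
  have h2 : (ξ : G → ℂ) 1 = 1 := hlin.1 1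
  have h3 : η 1 = φ 1 := hext 1
  rw [← heq, Pi.mul_apply, h2, one_mul, h3]

/-- The degree of a character over `τ` for `G / N` cyclic. -/
theorem degree_over_cyclic [Fintype G] (N : Subgroup G) [hN : N.Normal] [Fintype N]
    (hc : IsCyclic (G ⧸ N)) {τ : N → ℂ} (hτ : IsIrrCharacter N τ) {χ : G → ℂ}
    (hχ : IsIrrCharacter G χ) (h : classInner (fun n : N => χ n) τ ≠ 0) :
    χ 1 = ((inertiaOf N τ).index : ℂ) * τ 1 := by
  classical
  set T := inertiaOf N τ with hTdef
  have hNT : N ≤ T := le_inertiaOf N (isCharacter_of_isIrrCharacter hτ)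
  haveI : Fintype T := Fintype.ofFinite _
  obtain ⟨ψ, hψ, hind, hinner⟩ := exists_indFun_eq N τ T hNT hτ (fun g => mem_inertiaOf N τ g) hχ h
  -- the quotient `T / N` is cyclic
  have hcT : IsCyclic (T ⧸ N.subgroupOf T) := by
    let φ : T →* G ⧸ N := (QuotientGroup.mk' N).comp T.subtype
    have hle : N.subgroupOf T ≤ φ.ker := by
      intro x hx
      rw [MonoidHom.mem_ker]
      exact (QuotientGroup.eq_one_iff _).2 hx
    let φ' : T ⧸ N.subgroupOf T →* G ⧸ N := QuotientGroup.lift _ φ hle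
    refine isCyclic_of_injective φ' ?_
    rw [injective_iff_map_eq_one]
    intro a ha
    obtain ⟨x, rfl⟩ := QuotientGroup.mk_surjective a
    have h1 : φ x = 1 := ha
    rw [QuotientGroup.eq_one_iff]
    exact (QuotientGroup.eq_one_iff (x : G)).1 h1
  let e : N.subgroupOf T ≃* N := Subgroup.subgroupOfEquivOfLe hNT
  have hes : Function.Surjective e.toMonoidHom := e.surjective
  have hτ' : IsIrrCharacter (N.subgroupOf T) (fun x => τ (e x)) :=
    isIrrCharacter_comp_surjective hτ e.toMonoidHom hes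
  have hinv : ∀ (g : T) (n : N.subgroupOf T), (fun x => τ (e x))
      ⟨g * n * g⁻¹, (inferInstance : (N.subgroupOf T).Normal).conj_mem n n.2 g⟩ =
      (fun x => τ (e x)) n := by
    intro g n
    exact g.2 (e n)
  obtain ⟨η, hη, hext⟩ := Cfsg.Agent.S0886.result (N.subgroupOf T) hcT _ hτ' hinv
  have hab : ∀ x y : T, x * y * x⁻¹ * y⁻¹ ∈ N.subgroupOf T := by
    intro x y
    have h1 : ((x * y * x⁻¹ * y⁻¹ : T) : T ⧸ N.subgroupOf T) = 1 := by
      simp only [QuotientGroup.mk_mul, QuotientGroup.mk_inv]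
      letI := IsCyclic.commGroup (α := T ⧸ N.subgroupOf T)
      have : ((x : T ⧸ N.subgroupOf T)) * (y : T ⧸ N.subgroupOf T) =
          (y : T ⧸ N.subgroupOf T) * (x : T ⧸ N.subgroupOf T) := mul_comm _ _
      rw [this]
      group
    exact (QuotientGroup.eq_one_iff _).1 h1
  have hinner' : classInner (fun n : N.subgroupOf T => ψ n) (fun x => τ (e x)) ≠ 0 := by
    have h1 := classInner_comp_equiv e (resT N T hNT ψ) τ
    have h2 : (fun a => resT N T hNT ψ (e a)) = fun n : N.subgroupOf T => ψ n := rfl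
    rw [h2] at h1
    rw [h1, hinner]
    exact h
  have h1 := degree_eq_of_ext (N.subgroupOf T) hab hη hext hψ hinner'
  rw [← hind, indFun_one, h1]
  congr 1

/-- **The key statement for the noncentral case.** -/
theorem nc_key [Fintype G] (A : Subgroup G) [hA : A.Normal] [Fintype A] (hcyc : IsCyclic (G ⧸ A))
    (μ : A →* ℂˣ) {p : ℕ} (hp : p.Prime)
    (hν : ∀ (u : G) (a : A), (μ ⟨u * a * u⁻¹, hA.conj_mem a a.2 u⟩ * (μ a)⁻¹) ^ p = 1)
    (hμ : ∀ u, u ∉ A → ∃ v : A, μ ⟨u * v * u⁻¹, hA.conj_mem v v.2 u⟩ ≠ μ v) :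
    (∃ χ : IrrCharacter G, charDegree (χ : G → ℂ) = A.index) ∧
    ∀ χ : IrrCharacter G, ¬ p ∣ charDegree (χ : G → ℂ) →
      (∃ s : ℕ, s.Prime ∧ s ∣ A.index ∧ s ∣ charDegree (χ : G → ℂ)) ∨
      ∃ ζ : IrrCharacter G, charDegree (ζ : G → ℂ) = A.index * charDegree (χ : G → ℂ) := by
  classical
  constructor
  · -- the induced character
    have hμirr := LinearChars.isIrr_of_hom μ
    obtain ⟨χ, hχ, hχ1⟩ := exists_irr_over_of_cyclic A hcyc hμirr
    have hT : inertiaOf A (fun n : A => ((μ n : ℂˣ) : ℂ)) = A := by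
      apply le_antisymm
      · intro u hu
        by_contra hua
        obtain ⟨v, hv⟩ := hμ u hua
        exact hv (Units.ext (hu v))
      · exact le_inertiaOf A (isCharacter_of_isIrrCharacter hμirr)
    refine ⟨⟨χ, hχ⟩, Values.IsCharacter.charDegree_eq (Values.IsIrrCharacter.isCharacter hχ) ?_⟩
    rw [hχ1, hT]
    simp
  · intro χ hχp
    have hresc : IsCharacter A (fun a : A => (χ : G → ℂ) a) :=
      isCharacter_restrict (isCharacter_of_isIrrCharacter χ.2) A
    have h1 : (fun a : A => (χ : G → ℂ) a) 1 ≠ 0 := by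
      show (χ : G → ℂ) ((1 : A) : G) ≠ 0
      rw [Subgroup.coe_one]
      exact irr_apply_one_ne_zero χ.2
    obtain ⟨τ, hτ, hne⟩ := exists_irr_constituent hresc h1
    have hdeg := degree_over_cyclic A hcyc hτ χ.2 hne
    set d := charDegree τ with hd
    have hτd : τ 1 = d := (Values.IsCharacter.charDegree_cast
      (Values.IsIrrCharacter.isCharacter hτ)).symm
    set t₀ := (inertiaOf A τ).index with ht₀
    have hχa : charDegree (χ : G → ℂ) = t₀ * d := by
      apply Values.IsCharacter.charDegree_eq (Values.IsIrrCharacter.isCharacter χ.2)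
      rw [hdeg, hτd]
      push_cast
      rfl
    have hAT : A ≤ inertiaOf A τ := le_inertiaOf A (isCharacter_of_isIrrCharacter hτ)
    by_cases ht1 : t₀ = 1
    · right
      have hTtop : inertiaOf A τ = ⊤ := Subgroup.index_eq_one.mp ht1
      have hσ : IsIrrCharacter A (fun n => τ n * ((μ n : ℂˣ) : ℂ)) := isIrr_mul_hom hτ μ
      have hσ1 : (fun n => τ n * ((μ n : ℂˣ) : ℂ)) 1 = d := by
        simp [hτd]
      obtain ⟨ζ, hζ, hζ1⟩ := exists_irr_over_of_cyclic A hcyc hσ
      have hT1 : inertiaOf A (fun n => τ n * ((μ n : ℂˣ) : ℂ)) = A := by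
        apply le_antisymm
        · intro u hu
          by_contra hua
          rw [mem_inertiaOf] at hu
          have huT : u ∈ inertiaOf A τ := by rw [hTtop]; trivial
          rw [mem_inertiaOf] at huT
          let ν : A →* ℂˣ := (μ.comp (MulAut.conjNormal u).toMonoidHom) * μ⁻¹
          have hνa : ∀ a : A, ν a = μ ⟨u * a * u⁻¹, hA.conj_mem a a.2 u⟩ * (μ a)⁻¹ := fun a => rfl
          have htw : ∀ a, τ a * ((ν a : ℂˣ) : ℂ) = τ a := by
            intro a
            have h3 := hu a
            simp only [huT a] at h3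
            rw [hνa, Units.val_mul, ← mul_assoc, h3, mul_assoc, ← Units.val_mul, mul_inv_cancel,
              Units.val_one, mul_one]
          have hνd := pow_eq_one_of_twist hτ ν htw hτd
          have hcop : d.Coprime p := by
            rw [Nat.coprime_comm, Nat.Prime.coprime_iff_not_dvd hp]
            intro hpd
            apply hχp
            rw [hχa]
            exact Dvd.dvd.mul_left hpd _
          have hν1 : ∀ a, ν a = 1 := by
            intro a
            have h3 : ν a ^ d = 1 := by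
              apply Units.ext
              rw [Units.val_pow_eq_pow_val, Units.val_one]
              exact hνd a
            have h4 := orderOf_dvd_of_pow_eq_one h3
            have h5 := orderOf_dvd_of_pow_eq_one (hν u a)
            have h6 := Nat.eq_one_of_dvd_coprimes hcop h4 h5
            exact orderOf_eq_one_iff.mp h6
          obtain ⟨v, hv⟩ := hμ u hua
          apply hv
          have h3 := hν1 v
          rw [hνa] at h3
          exact mul_inv_eq_one.mp h3
        · exact le_inertiaOf A (isCharacter_of_isIrrCharacter hσ)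
      refine ⟨⟨ζ, hζ⟩, Values.IsCharacter.charDegree_eq (Values.IsIrrCharacter.isCharacter hζ) ?_⟩
      have hσ1' : τ 1 * ((μ 1 : ℂˣ) : ℂ) = d := by simp [hτd]
      rw [hζ1, hT1, hσ1', hχa, ht1, one_mul]
      push_cast
      rfl
    · left
      obtain ⟨s, hs, hsd⟩ := Nat.exists_prime_and_dvd ht1
      refine ⟨s, hs, hsd.trans (Subgroup.index_dvd_of_le hAT), ?_⟩
      rw [hχa]
      exact Dvd.dvd.mul_right hsd _

/-- The central case: the product with a fully ramified character. -/
theorem central_top {H : Type u} [Fintype G] [Group H] [Fintype H] (π : G →* H)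
    (hπ : Function.Surjective π) (hne : commutator H ≠ ⊥)
    (hmin : ∀ L : Subgroup H, L.Normal → L ≤ commutator H → L = ⊥ ∨ L = commutator H)
    (hcen : commutator H ≤ Subgroup.center H) {p : ℕ} (hp : p.Prime)
    (hexp : ∀ v ∈ commutator H, v ^ p = 1) :
    ∃ f : ℕ, p ∣ f ∧ (∃ ξ : IrrCharacter G, charDegree (ξ : G → ℂ) = f) ∧
      ∀ χ : IrrCharacter G, ¬ p ∣ charDegree (χ : G → ℂ) →
        ∃ ζ : IrrCharacter G, charDegree (ζ : G → ℂ) = charDegree (χ : G → ℂ) * f := by
  classical
  obtain ⟨ξ, f, hξf, hpf, ⟨k, hk⟩, hidx, hvan⟩ := central_data hne hmin hcen hp hexp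
  have hξc := isIrrCharacter_comp_surjective ξ.2 π hπ
  refine ⟨f, hpf, ⟨⟨_, hξc⟩, ?_⟩, ?_⟩
  · exact Values.IsCharacter.charDegree_eq (Values.IsIrrCharacter.isCharacter hξc) (by simp [hξf])
  intro χ hχp
  let Z : Subgroup G := (Subgroup.center H).comap π
  haveI hZn : Z.Normal := (inferInstance : (Subgroup.center H).Normal).comap π
  haveI : Fintype Z := Fintype.ofFinite _
  have hZidx : Z.index = f ^ 2 := by
    rw [Subgroup.index_comap_of_surjective _ hπ, hidx]
  have hZidx2 : Z.index = p ^ k := by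
    rw [Subgroup.index_comap_of_surjective _ hπ, hk]
  have hsolv : Group.IsSolvable (G ⧸ Z) := by
    apply Group.isSolvable_of_comm
    intro x y
    obtain ⟨x, rfl⟩ := QuotientGroup.mk_surjective x
    obtain ⟨y, rfl⟩ := QuotientGroup.mk_surjective y
    rw [← QuotientGroup.mk_mul, ← QuotientGroup.mk_mul, QuotientGroup.eq]
    show π _ ∈ Subgroup.center H
    apply hcen
    have h1 : (x * y)⁻¹ * (y * x) = y⁻¹ * x⁻¹ * y⁻¹⁻¹ * x⁻¹⁻¹ := by group
    rw [h1]
    simp only [map_mul, map_inv]
    exact comm_mem _ _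
  have hχ1 : (χ : G → ℂ) 1 = charDegree (χ : G → ℂ) := (Values.IsCharacter.charDegree_cast
    (Values.IsIrrCharacter.isCharacter χ.2)).symm
  have hcop : (charDegree (χ : G → ℂ)).Coprime Z.index := by
    rw [hZidx2]
    apply Nat.Coprime.pow_right
    rw [Nat.coprime_comm, Nat.Prime.coprime_iff_not_dvd hp]
    exact hχp
  have hres := isIrr_res_of_coprime_index Z hsolv χ.2 hχ1 hcop
  have hnorm : ‖(ξ : H → ℂ) 1‖ = f := by
    rw [hξf, Complex.norm_natCast]
  have hirr : IsIrrCharacter G ((χ : G → ℂ) * fun g => (ξ : H → ℂ) (π g)) := by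
    apply isIrr_mul_of_vanish Z (isCharacter_of_isIrrCharacter χ.2)
      (isCharacter_of_isIrrCharacter hξc) hres (f := f)
      (fun x hx => hvan _ hx) ?_ hZidx
    intro x hx
    have h1 := norm_central_eq ξ.2 hx
    rw [hnorm] at h1
    rw [Complex.mul_conj', h1]
    simp
  refine ⟨⟨_, hirr⟩, Values.IsCharacter.charDegree_eq (Values.IsIrrCharacter.isCharacter hirr) ?_⟩
  simp only [Pi.mul_apply, map_one]
  rw [hχ1, hξf]
  push_cast
  rfl

end G

end Cfsg.Agent.Lib.Char.ThreeDeg
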