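import Mathlib
import Cfsg.Agent.Lib.Char.ThreeDeg.ChiefTop

/-!
# The top chief factor: the combined statement

For a nonabelian solvable group `G` we find a prime `p` and a nonlinear degree `f` such that every
irreducible degree `a` prime to `p` shares a prime with `f`, or `f * a` is a degree as well.
-/

set_option autoImplicit false
set_option linter.style.haveILetI false

namespace Cfsg.Agent.Lib.Char.ThreeDeg

open Cfsg Cfsg.Agent.Lib.Char Cfsg.Agent.Lib.Char.Basic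

universe u

/-- The noncentral case, pulled back to `G`. -/
theorem noncentral_top {G H : Type u} [Group G] [Fintype G] [Group H] [Fintype H] (π : G →* H)
    (hπ : Function.Surjective π) (hne : commutator H ≠ ⊥)
    (hV : ∀ a ∈ commutator H, ∀ b ∈ commutator H, a * b = b * a)
    (hmin : ∀ L : Subgroup H, L.Normal → L ≤ commutator H → L = ⊥ ∨ L = commutator H)
    (hnc : ¬ commutator H ≤ Subgroup.center H) {p : ℕ} (hp : p.Prime)
    (hexp : ∀ v ∈ commutator H, v ^ p = 1) :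
    ∃ f : ℕ, 1 < f ∧ ¬ p ∣ f ∧ (∃ ξ : IrrCharacter G, charDegree (ξ : G → ℂ) = f) ∧
      ∀ χ : IrrCharacter G, ¬ p ∣ charDegree (χ : G → ℂ) →
        (∃ s : ℕ, s.Prime ∧ s ∣ f ∧ s ∣ charDegree (χ : G → ℂ)) ∨
        ∃ ζ : IrrCharacter G, charDegree (ζ : G → ℂ) = f * charDegree (χ : G → ℂ) := by
  classical
  obtain ⟨C, hC, μ₀, hVC, hcyc, hpC, hCtop, hμ₀, hν₀⟩ := nc_data hV hmin hne hnc hp hexp
  let A : Subgroup G := C.comap π
  haveI hAn : A.Normal := hC.comap π
  haveI : Fintype A := Fintype.ofFinite _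
  have hAidx : A.index = C.index := Subgroup.index_comap_of_surjective _ hπ
  have hcycA : IsCyclic (G ⧸ A) := by
    let φ : G →* H ⧸ C := (QuotientGroup.mk' C).comp π
    have hle : A ≤ φ.ker := by
      intro x hx
      rw [MonoidHom.mem_ker]
      exact (QuotientGroup.eq_one_iff _).2 hx
    let φ' : G ⧸ A →* H ⧸ C := QuotientGroup.lift _ φ hle
    refine isCyclic_of_injective φ' ?_
    rw [injective_iff_map_eq_one]
    intro y hy
    obtain ⟨x, rfl⟩ := QuotientGroup.mk_surjective y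
    have h1 : φ x = 1 := hy
    rw [QuotientGroup.eq_one_iff]
    exact (QuotientGroup.eq_one_iff (π x)).1 h1
  let e : A →* C :=
    { toFun := fun n => ⟨π (n : G), n.2⟩
      map_one' := Subtype.ext (map_one π)
      map_mul' := fun x y => Subtype.ext (map_mul π (x : G) (y : G)) }
  let μ : A →* ℂˣ := μ₀.comp e
  have hν : ∀ (u : G) (a : A), (μ ⟨u * a * u⁻¹, hAn.conj_mem a a.2 u⟩ * (μ a)⁻¹) ^ p = 1 := by
    intro u a
    have h1 := hν₀ (π u) (e a)
    have h2 : (⟨π u * (e a : H) * (π u)⁻¹, hC.conj_mem (e a) (e a).2 (π u)⟩ : C) =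
        e ⟨u * a * u⁻¹, hAn.conj_mem a a.2 u⟩ := by
      apply Subtype.ext
      show π u * π (a : G) * (π u)⁻¹ = π (u * a * u⁻¹)
      simp
    rw [h2] at h1
    exact h1
  have hμ : ∀ u : G, u ∉ A → ∃ v : A, μ ⟨u * v * u⁻¹, hAn.conj_mem v v.2 u⟩ ≠ μ v := by
    intro u hu
    obtain ⟨⟨v, hv⟩, hne'⟩ := hμ₀ (π u) hu
    obtain ⟨x, rfl⟩ := hπ v
    refine ⟨⟨x, hv⟩, ?_⟩
    show μ₀ (e _) ≠ μ₀ (e _)
    convert hne' using 2
    apply Subtype.ext
    show π (u * x * u⁻¹) = _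
    simp
    rfl
  obtain ⟨hξ, hkey⟩ := nc_key A hcycA μ hp hν hμ
  refine ⟨A.index, ?_, ?_, hξ, hkey⟩
  · rw [hAidx]
    have h1 : C.index ≠ 1 := fun h => hCtop (Subgroup.index_eq_one.1 h)
    have h0 : C.index ≠ 0 := Subgroup.index_ne_zero_of_finite
    omega
  · rw [hAidx]
    exact hpC

/-- **The combined statement at the top chief factor.** -/
theorem chief_top {G : Type u} [Group G] [Fintype G] [Group.IsSolvable G]
    (hnab : commutator G ≠ ⊥) :
    ∃ p f : ℕ, p.Prime ∧ 1 < f ∧ (∃ ξ : IrrCharacter G, charDegree (ξ : G → ℂ) = f) ∧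
      ∀ χ : IrrCharacter G, ¬ p ∣ charDegree (χ : G → ℂ) →
        (∃ s : ℕ, s.Prime ∧ s ∣ f ∧ s ∣ charDegree (χ : G → ℂ)) ∨
        ∃ ζ : IrrCharacter G, charDegree (ζ : G → ℂ) = f * charDegree (χ : G → ℂ) := by
  classical
  obtain ⟨M, hM, -, hne, hV, hmin⟩ := exists_chief_quot hnab
  haveI := hM
  haveI : Fintype (G ⧸ M) := Fintype.ofFinite _
  obtain ⟨p, hp, hexp⟩ := exists_prime_exp hne hV hmin
  let π : G →* G ⧸ M := QuotientGroup.mk' M
  have hπ : Function.Surjective π := QuotientGroup.mk'_surjective M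
  by_cases hcen : commutator (G ⧸ M) ≤ Subgroup.center (G ⧸ M)
  · obtain ⟨f, hpf, hξ, hkey⟩ := central_top π hπ hne hmin hcen hp hexp
    have hf0 : f ≠ 0 := by
      obtain ⟨ξ, rfl⟩ := hξ
      exact (Nat.pos_of_ne_zero fun h => by
        have h1 := (Values.IsCharacter.charDegree_cast (Values.IsIrrCharacter.isCharacter ξ.2))
        rw [h] at h1
        exact Ortho.irr_apply_one_ne_zero ξ.2 (by simpa using h1.symm)).ne'
    have hf1 : 1 < f := by
      have := Nat.le_of_dvd (Nat.pos_of_ne_zero hf0) hpf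
      have := hp.two_le
      omega
    refine ⟨p, f, hp, hf1, hξ, fun χ hχ => Or.inr ?_⟩
    obtain ⟨ζ, hζ⟩ := hkey χ hχ
    exact ⟨ζ, by rw [hζ, mul_comm]⟩
  · obtain ⟨f, hf1, -, hξ, hkey⟩ := noncentral_top π hπ hne hV hmin hcen hp hexp
    exact ⟨p, f, hp, hf1, hξ, hkey⟩

end Cfsg.Agent.Lib.Char.ThreeDeg
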